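import Cfsg.Agent.Lib.BlockArith.DihDefect.Count
import Cfsg.Agent.Lib.BlockArith.MajorRankTwo
import Cfsg.Agent.Lib.BlockArith.CyclicQuotientBound

/-!
# Columns of subsections and their completeness

* `IsCol`: combinations of the values of a subsection; `blockRank_add_le_of_cols`;
* `eq_zero_of_orth_sections`: the columns of the subsections inside a maximal pair are complete;
* `secH_proportional`: a section whose block has rank one is a multiple of one function;
* `ctr_exact`: exactness of the contributions at a character of height zero;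
* `formVec`, `ctr_of_form`: contributions from a decomposition of the block matrix of the section.
-/

set_option autoImplicit false

noncomputable section

open scoped ComplexConjugate Classical

namespace CfsgLib.SDDefect

open Cfsg CfsgLib.Blocks CfsgLib.BlockArith CfsgLib.Char CfsgLib.BrauerPairs CfsgLib.NilBlock CfsgLib.DihDefect

universe u

variable {G : Type u} [Group G] [Fintype G] {p : ℕ} [hp : Fact p.Prime] {M : Ideal AlgInt} [M.IsMaximal]
  {B : Set (IrrCharacter G)} {D : Subgroup G} {e : Set (IrrCharacter (Cen D))}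

/-- A combination of the values of the part in `b` on the section of `x`. -/
def IsCol (p : ℕ) (x : G) (H : Subgroup G) (b : Set (IrrCharacter H)) (c : IrrCharacter G → ℂ) : Prop :=
  ∃ a : H → ℂ, ∀ χ, c χ = ∑ s : H, if p ∣ orderOf s then 0 else a s * secH x H b χ s

omit hp in
theorem isCol_secH {x : G} {H : Subgroup G} (b : Set (IrrCharacter H)) {s : H} (hs : ¬ p ∣ orderOf s) :
    IsCol p x H b fun χ => secH x H b χ s := by
  refine ⟨fun t => if t = s then 1 else 0, fun χ => ?_⟩
  rw [Finset.sum_eq_single s (fun t _ ht => by simp [ht]) (by simp)]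
  simp [hs]

omit hp in
theorem isCol_ctr {x : G} {H : Subgroup G} (b : Set (IrrCharacter H)) (t : IrrCharacter G → ℂ)
    (S : Finset (IrrCharacter G)) : IsCol p x H b fun χ => ∑ η ∈ S, t η * ctr p x H b χ η := by
  refine ⟨fun s => ∑ η ∈ S, t η * (((p ^ blockDefect p b : ℕ) : ℂ) / (Nat.card H : ℂ)) * conj (secH x H b η s),
    fun χ => ?_⟩
  simp only [ctr, regSum_eq, Finset.mul_sum]
  rw [Finset.sum_comm]
  refine Finset.sum_congr rfl fun s _ => ?_
  split_ifs
  · simp
  · rw [Finset.sum_mul]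
    exact Finset.sum_congr rfl fun η _ => by ring

theorem IsCol.eq_zero {x : G} {H : Subgroup G} {b : Set (IrrCharacter H)} {c : IrrCharacter G → ℂ}
    (hH : H = Subgroup.centralizer ({x} : Set G)) (hM : IsPModular p M) (hx : ∃ k : ℕ, orderOf x = p ^ k)
    (hind : IsInducedBlock M H b B) (hc : IsCol p x H b c) {χ : IrrCharacter G} (hχ : χ ∉ B) : c χ = 0 := by
  obtain ⟨a, ha⟩ := hc
  rw [ha]
  refine Finset.sum_eq_zero fun s _ => ?_
  split_ifs with hs
  · rfl
  · rw [secH_eq_zero hH hM hx hind hχ hs, mul_zero]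

/-- Columns are orthogonal to the values at regular elements. -/
theorem IsCol.sum_char_mul {x : G} {b : Set (IrrCharacter (Cen (Subgroup.zpowers x)))} {c : IrrCharacter G → ℂ}
    (hM : IsPModular p M) (hx : ∃ k : ℕ, orderOf x = p ^ k) (hx1 : x ≠ 1)
    (hind : IsInducedBlock M (Cen (Subgroup.zpowers x)) b B) (hc : IsCol p x _ b c)
    {y : G} (hy : ¬ p ∣ orderOf y) : ∑ χ ∈ bset B, (χ : G → ℂ) y * conj (c χ) = 0 := by
  rw [Finset.sum_subset (Finset.subset_univ (bset B)) fun χ _ hχ => by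
    rw [hc.eq_zero (cen_zpowers x) hM hx hind fun hb => hχ (mem_bset.mpr hb), map_zero, mul_zero]]
  obtain ⟨a, ha⟩ := hc
  simp only [ha, map_sum, Finset.mul_sum]
  rw [Finset.sum_comm]
  refine Finset.sum_eq_zero fun s _ => ?_
  by_cases hs : p ∣ orderOf s
  · simp [hs]
  · simp only [if_neg hs, map_mul]
    rw [Finset.sum_congr rfl fun (χ : IrrCharacter G) _ => show (χ : G → ℂ) y * (conj (a s) * conj (secH x _ b χ s)) =
      conj (a s) * ((χ : G → ℂ) y * conj (secH x _ b χ s)) by ring, ← Finset.mul_sum,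
      sum_char_mul_secH hM hx hind.1 (u := 1) (isPPart_one_iff.mpr hy)
        (fun hcj => hx1 (isConj_one_left.mp hcj.symm)) hs, mul_zero]

/-- Columns of subsections that are not conjugate are orthogonal. -/
theorem IsCol.cross {x x' : G} {b : Set (IrrCharacter (Cen (Subgroup.zpowers x)))}
    {b' : Set (IrrCharacter (Cen (Subgroup.zpowers x')))} {c c' : IrrCharacter G → ℂ}
    (hM : IsPModular p M) (hx : ∃ k : ℕ, orderOf x = p ^ k) (hx' : ∃ k : ℕ, orderOf x' = p ^ k)
    (hind : IsInducedBlock M (Cen (Subgroup.zpowers x)) b B)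
    (hind' : IsInducedBlock M (Cen (Subgroup.zpowers x')) b' B)
    (hne : ∀ g : G, g * x' * g⁻¹ = x →
      cjPair g (⟨Subgroup.zpowers x', b'⟩ : BrauerPairIdx G) ≠ ⟨Subgroup.zpowers x, b⟩)
    (hc : IsCol p x _ b c) (hc' : IsCol p x' _ b' c') : ∑ χ ∈ bset B, c χ * conj (c' χ) = 0 := by
  rw [Finset.sum_subset (Finset.subset_univ (bset B)) fun χ _ hχ => by
    rw [hc.eq_zero (cen_zpowers x) hM hx hind fun hb => hχ (mem_bset.mpr hb), zero_mul]]
  obtain ⟨a, ha⟩ := hc
  obtain ⟨a', ha'⟩ := hc'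
  simp only [ha, ha', map_sum, Finset.sum_mul_sum]
  rw [Finset.sum_comm]
  refine Finset.sum_eq_zero fun s _ => ?_
  rw [Finset.sum_comm]
  refine Finset.sum_eq_zero fun t _ => ?_
  by_cases hs : p ∣ orderOf s
  · simp [hs]
  by_cases ht : p ∣ orderOf t
  · simp [ht]
  simp only [if_neg hs, if_neg ht, map_mul]
  rw [Finset.sum_congr rfl fun χ _ => show a s * secH x _ b χ s * (conj (a' t) * conj (secH x' _ b' χ t)) =
    a s * conj (a' t) * (secH x _ b χ s * conj (secH x' _ b' χ t)) by ring, ← Finset.mul_sum,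
    sum_secH_cross hM hx hx' hind.1 hind'.1 hne hs ht, mul_zero]

/-- The block of a subsection below a maximal pair. -/
theorem subsection_data (hM : IsPModular p M) (hmax : IsMaximalBrauerPair p M B D e) {x : G} (hx : x ∈ D) :
    ∃ b : Set (IrrCharacter (Cen (Subgroup.zpowers x))),
      SubpairLE p M (Subgroup.zpowers x) b D e ∧ IsInducedBlock M (Cen (Subgroup.zpowers x)) b B ∧
      IsBrauerPair p M (Subgroup.zpowers x) b ∧ (∃ k : ℕ, orderOf x = p ^ k) := by
  have hP := hmax.1.1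
  obtain ⟨b, hb, -⟩ := existsUnique_subpair hM (Subgroup.zpowers_le.mpr hx) hP
  have hpow := exists_pow_of_mem hP.1 hx
  have hpair : IsBrauerPairOf p M B (Subgroup.zpowers x) b :=
    (brauerPairOf_iff_of_subpair hM (a := ⟨_, b⟩) (b := ⟨D, e⟩) hb).mp hmax.1
  exact ⟨b, hb, (brauerPairOf_iff_induced hM (NilBlock.isPGroup_zpowers hpow) hpair.1.2 hmax.1.2.1).mp hpair,
    hpair.1, hpow⟩

/-- Orthogonal columns bound the rank. -/
theorem blockRank_add_le_of_cols (hM : IsPModular p M) (hmax : IsMaximalBrauerPair p M B D e) {n : ℕ}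
    (x : Fin n → G) (hx : ∀ i, x i ∈ D ∧ x i ≠ 1) (c : Fin n → IrrCharacter G → ℂ)
    (hc : ∀ i, ∀ b, SubpairLE p M (Subgroup.zpowers (x i)) b D e → IsCol p (x i) _ b (c i))
    (hdiag : ∀ i, ∃ χ ∈ B, c i χ ≠ 0)
    (horth : ∀ i j, i ≠ j → ∀ b b', SubpairLE p M (Subgroup.zpowers (x i)) b D e →
      SubpairLE p M (Subgroup.zpowers (x j)) b' D e →
      (∀ g : G, g * x j * g⁻¹ = x i →
        cjPair g (⟨Subgroup.zpowers (x j), b'⟩ : BrauerPairIdx G) ≠ ⟨Subgroup.zpowers (x i), b⟩) ∨
      ∑ χ ∈ bset B, c i χ * conj (c j χ) = 0) :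
    blockRank p B + n ≤ (bset B).card := by
  choose b hb hind _ hpow using fun i => subsection_data hM hmax (hx i).1
  refine DihDefect.blockRank_add_le (p := p) B (fun i χ => conj (c i χ))
    (fun i y hy => (hc i _ (hb i)).sum_char_mul hM (hpow i) (hx i).2 (hind i) hy) (fun i h => ?_) fun i j hij => ?_
  · obtain ⟨χ, hχ, hne⟩ := hdiag i
    simp only [starRingEnd_self_apply] at h
    rw [Finset.sum_congr rfl fun η _ => show conj (c i η) * c i η = ((Complex.normSq (c i η) : ℝ) : ℂ) by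
      rw [mul_comm, Complex.mul_conj], ← Complex.ofReal_sum, Complex.ofReal_eq_zero,
      Finset.sum_eq_zero_iff_of_nonneg fun η _ => Complex.normSq_nonneg _] at h
    exact hne (Complex.normSq_eq_zero.mp (h χ (mem_bset.mpr hχ)))
  · simp only [starRingEnd_self_apply]
    rw [Finset.sum_congr rfl fun χ _ => mul_comm _ _]
    rcases horth j i (Ne.symm hij) _ _ (hb j) (hb i) with h | h
    · exact IsCol.cross hM (hpow j) (hpow i) (hind j) (hind i) h (hc j _ (hb j)) (hc i _ (hb i))
    · exact h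

/-- Orthogonality to the section of `x` moves along conjugation of pairs. -/
theorem sum_mul_secH_eq_zero_conj {x x' g : G} (hg : g * x' * g⁻¹ = x)
    {b : Set (IrrCharacter (Cen (Subgroup.zpowers x)))} {b' : Set (IrrCharacter (Cen (Subgroup.zpowers x')))}
    (hgb : cjPair g (⟨Subgroup.zpowers x', b'⟩ : BrauerPairIdx G) = ⟨Subgroup.zpowers x, b⟩)
    (c : IrrCharacter G → ℂ)
    (h : ∀ s : Cen (Subgroup.zpowers x), ¬ p ∣ orderOf s →
      ∑ χ, c χ * secH x (Cen (Subgroup.zpowers x)) b χ s = 0)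
    {t : Cen (Subgroup.zpowers x')} (ht : ¬ p ∣ orderOf t) :
    ∑ χ, c χ * secH x' (Cen (Subgroup.zpowers x')) b' χ t = 0 := by
  have key : ∀ a : BrauerPairIdx G, a = ⟨Subgroup.zpowers x, b⟩ → ∀ s : Cen a.1, ¬ p ∣ orderOf s →
      ∑ χ, c χ * secH x (Cen a.1) a.2 χ s = 0 := by
    rintro _ rfl s hs
    exact h s hs
  have hcen : ∀ w : G, w ∈ Cen (Subgroup.zpowers x') ↔
      g * w * g⁻¹ ∈ Cen (cjPair g (⟨Subgroup.zpowers x', b'⟩ : BrauerPairIdx G)).1 := fun w => by
    rw [cjPair_fst, mem_centralizer_map_conj]; simp [mul_assoc]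
  let E : Cen (Subgroup.zpowers x') ≃* Cen (cjPair g (⟨Subgroup.zpowers x', b'⟩ : BrauerPairIdx G)).1 :=
    conjEquiv g _ _ fun y => by rw [hcen]; simp [mul_assoc]
  have hE : ∀ w, ((E w : Cen (cjPair g (⟨Subgroup.zpowers x', b'⟩ : BrauerPairIdx G)).1) : G) =
      g * (w : G) * g⁻¹ := fun w => rfl
  have hsec : ∀ χ : IrrCharacter G,
      secH x (Cen (cjPair g (⟨Subgroup.zpowers x', b'⟩ : BrauerPairIdx G)).1)
        (cjPair g (⟨Subgroup.zpowers x', b'⟩ : BrauerPairIdx G)).2 χ (E t) =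
        secH x' (Cen (Subgroup.zpowers x')) b' χ t := fun χ => by
    show blockPart (conjBlock (Subgroup.zpowers x') g b') _ (E t) = _
    rw [conjBlock_eq_tblock]
    refine (Cyclic.blockPart_tblock E b' _ t).trans ?_
    show blockPart b' (fun w => (χ : G → ℂ) (x * (E w : G))) t = _
    rw [secH]
    congr 1
    funext w
    rw [hE, ← hg, show g * x' * g⁻¹ * (g * (w : G) * g⁻¹) = g * (x' * (w : G)) * g⁻¹ by group,
      isClassFunction_of_isIrr χ.2]
  simp only [← hsec]
  exact key _ hgb _ (by rwa [MulEquiv.orderOf_eq])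

/-- **Completeness of the columns.** -/
theorem eq_zero_of_orth_sections (hM : IsPModular p M) (hmax : IsMaximalBrauerPair p M B D e)
    (c : IrrCharacter G → ℂ) (hout : ∀ χ, χ ∉ B → c χ = 0)
    (hreg : ∀ y : G, ¬ p ∣ orderOf y → ∑ χ, c χ * (χ : G → ℂ) y = 0)
    (hsec : ∀ d ∈ D, d ≠ 1 → ∀ b, SubpairLE p M (Subgroup.zpowers d) b D e →
      ∀ s : Cen (Subgroup.zpowers d), ¬ p ∣ orderOf s →
        ∑ χ, c χ * secH d (Cen (Subgroup.zpowers d)) b χ s = 0)
    (χ₀ : IrrCharacter G) : c χ₀ = 0 := by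
  have hB := hmax.1.2.1
  have hF : ∀ g : G, ∑ χ, c χ * (χ : G → ℂ) g = 0 := by
    intro g
    obtain ⟨u, hu⟩ := exists_isPPart (p := p) g
    by_cases hu1 : u = 1
    · exact hreg g (isPPart_one_iff.mp (hu1 ▸ hu))
    obtain ⟨y, rfl, hcomm, hupow, hy⟩ := hu
    have hyH : y ∈ (Cen (Subgroup.zpowers u)) := CfsgLib.NilBlock.mem_cen_zpowers.mpr hcomm.eq.symm
    have hyreg : ¬ p ∣ orderOf (⟨y, hyH⟩ : (Cen (Subgroup.zpowers u))) := by rwa [Subgroup.orderOf_mk]
    have := Fintype.ofFinite {b : Set (IrrCharacter (Cen (Subgroup.zpowers u))) // IsPBlock M b}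
    have h1 : ∀ χ : IrrCharacter G, c χ * (χ : G → ℂ) (u * y) =
        ∑ b : {b : Set (IrrCharacter (Cen (Subgroup.zpowers u))) // IsPBlock M b},
          if IsInducedBlock M (Cen (Subgroup.zpowers u)) b.1 B then c χ * secH u (Cen (Subgroup.zpowers u)) b.1 χ ⟨y, hyH⟩ else 0 := fun χ => by
      by_cases hχ : χ ∈ B
      · rw [← sum_inducingH (cen_zpowers u) hM hupow hB χ hχ hyreg, Finset.mul_sum]
        exact Finset.sum_congr rfl fun b _ => by split_ifs <;> simp
      · simp [hout χ hχ]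
    rw [Finset.sum_congr rfl fun χ _ => h1 χ, Finset.sum_comm]
    refine Finset.sum_eq_zero fun b _ => ?_
    by_cases hind : IsInducedBlock M (Cen (Subgroup.zpowers u)) b.1 B
    swap
    · simp [hind]
    simp only [if_pos hind]
    have hpair := (brauerPairOf_iff_induced hM (NilBlock.isPGroup_zpowers hupow) b.2 hB).mpr hind
    obtain ⟨g₀, hg₀⟩ := exists_conj_le_maximal hM (a := ⟨Subgroup.zpowers u, b.1⟩) (b := ⟨D, e⟩) hmax hpair
    have hfst : (cjPair g₀ (⟨Subgroup.zpowers u, b.1⟩ : BrauerPairIdx G)).1 = Subgroup.zpowers (g₀ * u * g₀⁻¹) := by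
      rw [cjPair_fst, map_conj_zpowers]
    have hd : g₀ * u * g₀⁻¹ ∈ D :=
      subgroup_le hg₀ (hfst ▸ Subgroup.mem_zpowers (g₀ * u * g₀⁻¹))
    obtain ⟨bd, hbd, -⟩ := subsection_data hM hmax hd
    exact sum_mul_secH_eq_zero_conj rfl (pair_eq_of_le hM hmax.1.1 hg₀ hbd hfst) c
      (hsec _ hd (fun h => hu1 (by simpa using h)) bd hbd) hyreg
  have h2 : classInner (fun g => ∑ χ, c χ * (χ : G → ℂ) g) (χ₀ : G → ℂ) = 0 := by
    simp [classInner_def, hF]
  rw [show (fun g => ∑ χ, c χ * (χ : G → ℂ) g) = ∑ χ : IrrCharacter G, c χ • (χ : G → ℂ) by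
    funext g; simp [Finset.sum_apply], classInner_sum_left,
    Finset.sum_eq_single χ₀ (fun χ _ hne => by
      rw [classInner_smul_left, classInner_irr_ne χ.2 χ₀.2 fun h => hne (Subtype.ext h), mul_zero]) (by simp),
    classInner_smul_left, classInner_irr_self χ₀.2, mul_one] at h2
  exact h2

/-- A section whose block has rank one. -/
theorem secH_proportional {x : G} {H : Subgroup G} {b : Set (IrrCharacter H)} (hl : blockRank p b = 1) :
    ∃ (φ : H → ℂ) (a : IrrCharacter G → ℂ), ∀ χ (s : H), ¬ p ∣ orderOf s → secH x H b χ s = a χ * φ s := by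
  rw [blockRank] at hl
  obtain ⟨⟨φ, hφ⟩, -, hgen⟩ := finrank_eq_one_iff'.mp hl
  have hA : ∀ θ ∈ b, ∃ t : ℂ, ∀ s : H, ¬ p ∣ orderOf s → (θ : H → ℂ) s = t * φ s := fun θ hθ => by
    obtain ⟨t, ht⟩ := hgen ⟨_, Submodule.subset_span ⟨θ, hθ, rfl⟩⟩
    refine ⟨t, fun s hs => ?_⟩
    have := congrFun (congrArg Subtype.val ht) s
    simp only [SetLike.val_smul, Pi.smul_apply, smul_eq_mul, pRegularPart_apply, if_neg hs] at this
    exact this.symm
  choose! t ht using hA
  refine ⟨φ, fun χ => ∑ θ : IrrCharacter H, if θ ∈ b then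
    classInner (fun c : H => (χ : G → ℂ) (x * (c : G))) (θ : H → ℂ) * t θ else 0, fun χ s hs => ?_⟩
  rw [secH, blockPart_apply, Finset.sum_mul]
  refine Finset.sum_congr rfl fun θ _ => ?_
  split_ifs with hθ
  · rw [ht θ hθ s hs]; ring
  · rw [zero_mul]

/-- The contribution of a character of height zero, exactly divided by the height. -/
theorem ctr_exact (hM : IsPModular p M) {x : G} {H : Subgroup G} (hH : H = Subgroup.centralizer ({x} : Set G))
    (hx : ∃ k : ℕ, orderOf x = p ^ k) {b : Set (IrrCharacter H)} (hind : IsInducedBlock M H b B)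
    (hd : blockDefect p b = blockDefect p B) {χ ψ : IrrCharacter G}
    (hχ : χ ∈ B) (h0 : blockHeight p B (χ : G → ℂ) = 0) (hψ : ψ ∈ B) {m : ℤ}
    (hm : ctr p x H b χ ψ = m) :
    (p : ℤ) ^ blockHeight p B (ψ : G → ℂ) ∣ m ∧ ¬ (p : ℤ) ^ (blockHeight p B (ψ : G → ℂ) + 1) ∣ m := by
  subst hH
  have := Fintype.ofFinite (Subgroup.centralizer ({x} : Set G))
  rw [ctr_eq_contrib] at hm
  obtain ⟨-, hB, -⟩ := (isInducedBlock_iff _).mp hind
  set hψ' := blockHeight p B (ψ : G → ℂ) with hhdef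
  obtain ⟨w, hw, -, hc⟩ := contrib_height hM hx hind hd hχ h0 hψ
  have hdvd : (p : ℤ) ^ hψ' ∣ m := by
    have := DihDefect.int_dvd_of_eq (a := m) (pow_ne_zero hψ' hp.out.ne_zero) hw (by rw [← hm, hc])
    exact_mod_cast this
  refine ⟨hdvd, fun hdvd' => ?_⟩
  obtain ⟨Z, hZ⟩ := exists_contrib_eq hM hx hind.1 χ
  set a := (Nat.card G).factorization p with ha
  set n' := Nat.card G / p ^ a with hn'
  have hcard : Nat.card G = p ^ a * n' := (Nat.ordProj_mul_ordCompl_eq_self _ _).symm
  have key : ∀ η ∈ B, contrib p x b χ η * (n' : ℂ) = ((p ^ blockHeight p B (η : G → ℂ) : ℕ) : ℂ) *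
      ((charDegree (η : G → ℂ) / p ^ (charDegree (η : G → ℂ)).factorization p : ℕ) : ℂ) *
        ((zomega η Z : locRing M) : ℂ) := by
    intro η hη
    have hdeg := degree_height hM hB hη
    have h1 := (hZ η).2
    rw [← CfsgLib.CharBlocks.coe_charDegree_irr η, hd, hcard] at h1
    set v := (charDegree (η : G → ℂ)).factorization p with hv
    conv_rhs at h1 => rw [← Nat.ordProj_mul_ordCompl_eq_self (charDegree (η : G → ℂ)) p]
    refine mul_left_cancel₀ (Nat.cast_ne_zero.mpr (pow_ne_zero a hp.out.ne_zero)) ?_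
    have he : p ^ blockDefect p B * p ^ v = p ^ a * p ^ blockHeight p B (η : G → ℂ) := by
      rw [← pow_add, ← pow_add]; congr 1; omega
    have he' : ((p ^ blockDefect p B : ℕ) : ℂ) * ((p ^ v : ℕ) : ℂ) =
        ((p ^ a : ℕ) : ℂ) * ((p ^ blockHeight p B (η : G → ℂ) : ℕ) : ℂ) := by exact_mod_cast he
    push_cast at h1 he' ⊢
    linear_combination h1 + ((charDegree (η : G → ℂ) / p ^ v : ℕ) : ℂ) * (zomega η Z : ℂ) * he'
  have hn0 : (n' : Res M) ≠ 0 := fun h => Nat.not_dvd_ordCompl hp.out Nat.card_pos.ne'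
    ((res_natCast_eq_zero_iff M hM n').mp ((map_natCast (res M) n').trans h))
  have hres : bomega χ Z ≠ 0 := by
    intro h
    obtain ⟨v, hv, L, hL, hf⟩ := exists_heightVec hM hx hind
    have h2 := hf χ χ
    have h3 := key χ hχ
    rw [h0, pow_zero, Nat.cast_one, one_mul] at h3
    have h4 : (⟨contrib p x b χ χ, algInt_le_locRing M (isIntegral_contrib hM hind.1 χ χ)⟩ : locRing M) *
        (n' : locRing M) =
          ((charDegree (χ : G → ℂ) / p ^ (charDegree (χ : G → ℂ)).factorization p : ℕ) : locRing M) *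
            zomega χ Z := Subtype.ext (by simpa using h3)
    have h5 := congrArg (res M) h4
    rw [map_mul, map_mul, ← bomega_apply, h, mul_zero, map_natCast] at h5
    rw [(mul_eq_zero.mp h5).resolve_right hn0, zero_mul] at h2
    exact mul_ne_zero (hv χ hχ h0) (mul_ne_zero (hv χ hχ h0) hL) h2.symm
  obtain ⟨c, hc'⟩ := hdvd'
  set deg := charDegree (ψ : G → ℂ) / p ^ (charDegree (ψ : G → ℂ)).factorization p with hdeg
  have h6 : ((p : ℤ) : locRing M) * (c : locRing M) * (n' : locRing M) = (deg : locRing M) * zomega ψ Z := by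
    apply Subtype.ext
    have h7 := key ψ hψ
    rw [hm, hc', ← hhdef, ← hdeg] at h7
    refine mul_left_cancel₀ (pow_ne_zero hψ' (Nat.cast_ne_zero.mpr hp.out.ne_zero : (p : ℂ) ≠ 0)) ?_
    simp only [Subring.coe_mul, SubringClass.coe_natCast, SubringClass.coe_intCast]
    push_cast at h7 ⊢
    linear_combination h7
  have h8 := congrArg (res M) h6
  rw [map_mul, map_mul, map_mul, ← bomega_apply, ← bomega_eq_of_mem hB hχ hψ, map_natCast, map_natCast,
    show res M ((p : ℤ) : locRing M) = 0 by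
      rw [Int.cast_natCast]; exact (res_natCast_eq_zero_iff M hM p).mpr dvd_rfl,
    zero_mul, zero_mul] at h8
  rcases mul_eq_zero.mp h8.symm with h9 | h9
  · exact Nat.not_dvd_ordCompl hp.out (CfsgLib.CharBlocks.charDegree_pos ψ.2).ne'
      ((res_natCast_eq_zero_iff M hM _).mp ((map_natCast (res M) _).trans h9))
  · exact hres h9

/-- The vector of a linear form `u` on the members of the block of the section. -/
def formVec (x : G) (H : Subgroup G) (b : Set (IrrCharacter H)) (u : IrrCharacter H → ℂ)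
    (χ : IrrCharacter G) : ℂ :=
  ∑ φ : IrrCharacter H, if φ ∈ b then classInner (fun c : H => (χ : G → ℂ) (x * (c : G))) (φ : H → ℂ) * u φ else 0

/-- Contributions from a form of the block matrix. -/
theorem ctr_of_form (hM : IsPModular p M) (x : G) {H : Subgroup G} {b : Set (IrrCharacter H)}
    (hb : IsPBlock M b) {ι : Type*} (K : Finset ι) (cst : ι → ℤ) (u : ι → IrrCharacter H → ℤ)
    (hform : ∀ φ ∈ b, ∀ φ' ∈ b, blockMat p b φ φ' = ∑ k ∈ K, cst k * (u k φ * u k φ'))
    (χ η : IrrCharacter G) :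
    ctr p x H b χ η = ∑ k ∈ K, (cst k : ℂ) * formVec x H b (fun φ => (u k φ : ℂ)) χ *
      conj (formVec x H b (fun φ => (u k φ : ℂ)) η) := by
  set A := fun (χ : IrrCharacter G) (φ : IrrCharacter H) =>
    classInner (fun c : H => (χ : G → ℂ) (x * (c : G))) (φ : H → ℂ)
  have hsec : ∀ χ s, secH x H b χ s = ∑ φ : IrrCharacter H, if φ ∈ b then A χ φ * (φ : H → ℂ) s else 0 :=
    fun χ s => by rw [secH, blockPart_apply]
  have h1 : ctr p x H b χ η = ∑ φ : IrrCharacter H, ∑ φ' : IrrCharacter H,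
      if φ ∈ b ∧ φ' ∈ b then A χ φ * conj (A η φ') * (blockMat p b φ φ' : ℂ) else 0 := by
    calc ctr p x H b χ η = ∑ s : H, ∑ φ : IrrCharacter H, ∑ φ' : IrrCharacter H,
          if φ ∈ b ∧ φ' ∈ b then A χ φ * conj (A η φ') * (((p ^ blockDefect p b : ℕ) : ℂ) / (Nat.card H : ℂ) *
            (if p ∣ orderOf s then 0 else (φ : H → ℂ) s * conj ((φ' : H → ℂ) s))) else 0 := by
          rw [ctr, regSum_eq, Finset.mul_sum]
          refine Finset.sum_congr rfl fun s _ => ?_
          by_cases hs : p ∣ orderOf s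
          · simp [hs]
          · simp only [if_neg hs]
            rw [hsec χ, hsec η, map_sum, Finset.sum_mul_sum]
            simp only [Finset.mul_sum]
            refine Finset.sum_congr rfl fun φ _ => Finset.sum_congr rfl fun φ' _ => ?_
            by_cases hφ : φ ∈ b <;> by_cases hφ' : φ' ∈ b <;> simp [hφ, hφ'] <;> ring
      _ = _ := by
          rw [Finset.sum_comm]
          refine Finset.sum_congr rfl fun φ _ => ?_
          rw [Finset.sum_comm]
          refine Finset.sum_congr rfl fun φ' _ => ?_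
          split_ifs with h
          · rw [← Finset.mul_sum, ← Finset.mul_sum, ← blockMat_eq_regSum hM hb h.1]
          · simp
  rw [h1]
  simp only [formVec, map_sum, Finset.sum_mul, Finset.mul_sum]
  conv_rhs => rw [Finset.sum_comm]; arg 2; ext φ; rw [Finset.sum_comm]
  conv_rhs => rw [Finset.sum_comm]
  refine Finset.sum_congr rfl fun φ _ => Finset.sum_congr rfl fun φ' _ => ?_
  split_ifs with h h2 h3 <;> try (simp_all; done)
  rw [hform φ h.1 φ' h.2, Int.cast_sum, Finset.mul_sum]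
  refine Finset.sum_congr rfl fun k _ => ?_
  simp only [map_mul, map_intCast, A]
  push_cast
  ring

end CfsgLib.SDDefect
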