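import Cfsg.Agent.Lib.BlockArith.SDDefect.Columns
import Cfsg.Agent.Lib.Invol.QDW.Semidihedral

/-!
# Elements of a semidihedral defect group

* `SData`: a semidihedral subgroup of order `2 ^ (k + 4)`;
* `rot_fusion_sd`: powers of the generator with conjugate subpairs are equal or twisted;
* `exists_transversal`: representatives of the twisted pairs;
* `subpair_conj_mem`: conjugation inside the defect group carries subpairs to subpairs;
* `card_cen_reflection`: reflections have centralisers of order four.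
-/

set_option autoImplicit false

noncomputable section

open scoped Classical

namespace CfsgLib.SDDefect

open Cfsg CfsgLib.Blocks CfsgLib.BlockArith CfsgLib.Char CfsgLib.BrauerPairs CfsgLib.NilBlock CfsgLib.DihDefect
open CfsgLib.Invol.QDW

universe u

/-- A semidihedral subgroup. -/
structure SData {G : Type u} [Group G] (D : Subgroup G) {k : ℕ} (ι : Sd k →* G) : Prop where
  inj : Function.Injective ι
  range : ι.range = D

variable {k : ℕ}

theorem Sd.rot_mul (i j : ZMod (2 ^ (k + 3))) :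
    (⟨i, false⟩ : Sd k) * ⟨j, false⟩ = ⟨i + j, false⟩ := by ext <;> simp

theorem Sd.rot_inv (i : ZMod (2 ^ (k + 3))) : (⟨i, false⟩ : Sd k)⁻¹ = ⟨-i, false⟩ := by ext <;> simp

theorem Sd.rot_zero : (⟨0, false⟩ : Sd k) = 1 := rfl

theorem Sd.conj_rot (a : Sd k) (i : ZMod (2 ^ (k + 3))) :
    a * ⟨i, false⟩ * a⁻¹ = ⟨cond a.e (Sd.c k * i) i, false⟩ := by
  obtain ⟨j, f⟩ := a
  cases f <;> ext <;> simp <;>
    first
      | ring1
      | linear_combination (-j) * (Sd.c_mul_c (k := k))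
      | linear_combination j * (Sd.c_mul_c (k := k))

theorem Sd.half_add_half : (half k : ZMod (2 ^ (k + 3))) + half k = 0 := by
  rw [← two_mul]; exact Sd.two_half

theorem Sd.c_mul_half : Sd.c k * (half k : ZMod (2 ^ (k + 3))) = half k := by
  rw [Sd.c]
  linear_combination (Sd.half_sq (k := k)) - (Sd.two_half (k := k))

/-- The twist fixes only the centre. -/
theorem Sd.c_fixed {i : ZMod (2 ^ (k + 3))} (h : Sd.c k * i = i) : i = 0 ∨ i = half k := by
  have hc : (⟨i, false⟩ : Sd k) ∈ Subgroup.center (Sd k) := Subgroup.mem_center_iff.mpr fun a => by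
    have h1 := Sd.conj_rot a i
    rw [h, show cond a.e i i = i by cases a.e <;> rfl] at h1
    exact mul_inv_eq_iff_eq_mul.mp h1
  exact (Sd.mem_center_iff.mp hc).2

theorem Sd.c_fixed_iff {i : ZMod (2 ^ (k + 3))} : Sd.c k * i = i ↔ i = 0 ∨ i = half k :=
  ⟨Sd.c_fixed, fun h => by rcases h with rfl | rfl <;> simp [Sd.c_mul_half]⟩

theorem Sd.c_c_mul (i : ZMod (2 ^ (k + 3))) : Sd.c k * (Sd.c k * i) = i := by
  rw [← mul_assoc, Sd.c_mul_c, one_mul]

/-- Representatives of the pairs `{i, c i}`. -/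
theorem exists_transversal (k : ℕ) :
    ∃ T : Finset (ZMod (2 ^ (k + 3))), T.card = half k - 1 ∧ (∀ i ∈ T, i ≠ 0 ∧ i ≠ half k) ∧
      (∀ i ∈ T, Sd.c k * i ∉ T) ∧ ∀ i : ZMod (2 ^ (k + 3)), i = 0 ∨ i = half k ∨ i ∈ T ∨ Sd.c k * i ∈ T := by
  set U := Finset.univ.filter fun i : ZMod (2 ^ (k + 3)) => Sd.c k * i ≠ i with hU
  have hUc : U.card = 2 ^ (k + 3) - 2 := by
    have h1 := Finset.card_filter_add_card_filter_not (s := (Finset.univ : Finset (ZMod (2 ^ (k + 3)))))
      (fun i => Sd.c k * i ≠ i)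
    rw [show (Finset.univ.filter fun i : ZMod (2 ^ (k + 3)) => ¬ (Sd.c k * i ≠ i)) = {0, (half k : ZMod (2 ^ (k + 3)))} by
      ext i; simp [Sd.c_fixed_iff]; tauto, Finset.card_pair Sd.half_ne_zero.symm, Finset.card_univ, ZMod.card] at h1
    rw [hU]; omega
  set T := U.filter fun i => i.val < (Sd.c k * i).val with hT
  have hmemU : ∀ {i}, i ∈ U → Sd.c k * i ∈ U := fun {i} hi => by
    simp only [hU, Finset.mem_filter, Finset.mem_univ, true_and, Sd.c_c_mul] at hi ⊢
    exact hi.symm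
  have hne : ∀ {i}, i ∈ U → i.val ≠ (Sd.c k * i).val := fun {i} hi he =>
    (Finset.mem_filter.mp hi).2 (ZMod.val_injective _ he).symm
  have himg : (U.filter fun i => ¬ i.val < (Sd.c k * i).val) = T.image (Sd.c k * ·) := by
    ext i
    simp only [hT, Finset.mem_filter, Finset.mem_image]
    constructor
    · rintro ⟨hi, hlt⟩
      exact ⟨Sd.c k * i, ⟨hmemU hi, by rw [Sd.c_c_mul]; have := hne hi; omega⟩, Sd.c_c_mul i⟩
    · rintro ⟨j, ⟨hj, hlt⟩, rfl⟩
      exact ⟨hmemU hj, by rw [Sd.c_c_mul]; omega⟩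
  refine ⟨T, ?_, fun i hi => ?_, fun i hi hc => ?_, fun i => ?_⟩
  · have h1 := Finset.card_filter_add_card_filter_not (s := U) (fun i => i.val < (Sd.c k * i).val)
    rw [himg, Finset.card_image_of_injective _ (fun a b h => by
      simpa [Sd.c_c_mul] using congrArg (Sd.c k * ·) h), hUc, ← hT] at h1
    have : 2 ^ (k + 3) = 2 * half k := by rw [half, pow_succ']
    omega
  · have h := (Finset.mem_filter.mp (Finset.mem_filter.mp hi).1).2
    exact ⟨fun e => h (Sd.c_fixed_iff.mpr (Or.inl e)), fun e => h (Sd.c_fixed_iff.mpr (Or.inr e))⟩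
  · have h1 := (Finset.mem_filter.mp hc).2
    have h2 := (Finset.mem_filter.mp hi).2
    rw [Sd.c_c_mul] at h1
    omega
  · by_cases hi : i ∈ U
    · rcases Nat.lt_or_ge i.val (Sd.c k * i).val with hlt | hge
      · exact Or.inr (Or.inr (Or.inl (Finset.mem_filter.mpr ⟨hi, hlt⟩)))
      · refine Or.inr (Or.inr (Or.inr (Finset.mem_filter.mpr ⟨hmemU hi, ?_⟩)))
        rw [Sd.c_c_mul]; have := hne hi; omega
    · simp only [hU, Finset.mem_filter, Finset.mem_univ, true_and, ne_eq, not_not, Sd.c_fixed_iff] at hi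
      exact hi.elim Or.inl fun e => Or.inr (Or.inl e)

/-- Reflections square into the centre. -/
theorem Sd.refl_sq (i : ZMod (2 ^ (k + 3))) :
    (⟨i, true⟩ : Sd k) * ⟨i, true⟩ = ⟨i * half k, false⟩ := by
  ext <;> simp [Sd.c]; ring

/-- The commutant of a reflection. -/
theorem Sd.commute_refl_iff (i : ZMod (2 ^ (k + 3))) (a : Sd k) :
    a * ⟨i, true⟩ = ⟨i, true⟩ * a ↔
      a = 1 ∨ a = ⟨half k, false⟩ ∨ a = ⟨i, true⟩ ∨ a = ⟨i + half k, true⟩ := by
  obtain ⟨j, f⟩ := a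
  cases f with
  | false =>
    simp only [Sd.ext_iff, Sd.mul_i, Sd.mul_e, Sd.one_i, Sd.one_e, cond_false, cond_true, Bool.xor_true,
      Bool.xor_false, Bool.not_false, and_true, Bool.false_eq_true, and_false, or_false]
    rw [show (j + i = i + Sd.c k * j) ↔ Sd.c k * j = j from
      ⟨fun h => by linear_combination -h, fun h => by linear_combination -h⟩, Sd.c_fixed_iff]
  | true =>
    simp only [Sd.ext_iff, Sd.mul_i, Sd.mul_e, Sd.one_i, Sd.one_e, cond_true, Bool.xor_true,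
      and_true, Bool.true_eq_false, and_false, false_or]
    rw [show (j + Sd.c k * i = i + Sd.c k * j) ↔ Sd.c k * (j - i) = j - i from
      ⟨fun h => by linear_combination -h, fun h => by linear_combination -h⟩, Sd.c_fixed_iff, sub_eq_zero]
    exact or_congr Iff.rfl ⟨fun h => by linear_combination h, fun h => by linear_combination h⟩

/-- A reflection is conjugate to `⟨0, true⟩` or to `⟨1, true⟩`. -/
theorem Sd.refl_class (i : ZMod (2 ^ (k + 3))) :
    ∃ a : Sd k, a * ⟨i, true⟩ * a⁻¹ = ⟨0, true⟩ ∨ a * ⟨i, true⟩ * a⁻¹ = ⟨1, true⟩ := by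
  have hsol : ∀ j : ZMod (2 ^ (k + 3)),
      ((2 : ZMod (2 ^ (k + 3))) - half k) * (j * (1 + (2 ^ (k + 1) : ℕ))) = 2 * j := fun j => by
    have h1 : (2 : ZMod (2 ^ (k + 3))) * (2 ^ (k + 1) : ℕ) = half k := by
      rw [show (2 : ZMod (2 ^ (k + 3))) = ((2 : ℕ) : ZMod (2 ^ (k + 3))) by norm_num, ← Nat.cast_mul, half, ← pow_succ']
    have h2 : (half k : ZMod (2 ^ (k + 3))) * (2 ^ (k + 1) : ℕ) = 0 := by
      rw [half, ← Nat.cast_mul, ZMod.natCast_eq_zero_iff, ← pow_add]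
      exact pow_dvd_pow 2 (by omega)
    linear_combination j * h1 - j * h2
  have hconj : ∀ (j i : ZMod (2 ^ (k + 3))),
      (⟨j, false⟩ : Sd k) * ⟨i, true⟩ * (⟨j, false⟩ : Sd k)⁻¹ = ⟨i + (2 - half k) * j, true⟩ := fun j i => by
    ext <;> simp [Sd.c]; ring
  set a : ZMod (2 ^ (k + 3)) := ((i.val / 2 : ℕ) : ZMod (2 ^ (k + 3))) with ha
  have hi : i = ((i.val % 2 : ℕ) : ZMod (2 ^ (k + 3))) + 2 * a := by
    conv_lhs => rw [← ZMod.natCast_rightInverse i, ← Nat.mod_add_div i.val 2]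
    rw [ha]; push_cast; ring
  refine ⟨⟨-a * (1 + (2 ^ (k + 1) : ℕ)), false⟩, ?_⟩
  rw [hconj, hsol]
  rcases Nat.mod_two_eq_zero_or_one i.val with e | e <;> rw [e] at hi
  · left; ext
    · rw [hi]; push_cast; ring
    · rfl
  · right; ext
    · rw [hi]; push_cast; ring
    · rfl

variable {G : Type u} [Group G] {D : Subgroup G} {ι : Sd k →* G}

theorem SData.mem (d : SData D ι) (x : Sd k) : ι x ∈ D := d.range ▸ ⟨x, rfl⟩

theorem SData.surj (d : SData D ι) {y : G} (hy : y ∈ D) : ∃ x, ι x = y := by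
  rw [← d.range] at hy; exact hy

theorem SData.card (d : SData D ι) : Nat.card D = 2 ^ (k + 4) := by
  rw [← d.range, ← Nat.card_congr (MonoidHom.ofInjective d.inj).toEquiv, Sd.card_eq]

theorem SData.isPGroup (d : SData D ι) : IsPGroup 2 D := IsPGroup.of_card d.card

/-- The central involution. -/
def zsd {k : ℕ} (ι : Sd k →* G) : G := ι ⟨half k, false⟩

theorem SData.orderOf_zsd (d : SData D ι) : orderOf (zsd ι) = 2 := by
  rw [zsd, orderOf_injective ι d.inj]
  refine orderOf_eq_prime ?_ fun h => Sd.half_ne_zero (k := k) (congrArg Sd.i h)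
  rw [pow_two, Sd.rot_mul, Sd.half_add_half, Sd.rot_zero]

theorem SData.zsd_comm (d : SData D ι) {y : G} (hy : y ∈ D) : y * zsd ι = zsd ι * y := by
  obtain ⟨x, rfl⟩ := d.surj hy
  rw [zsd, ← map_mul, ← map_mul,
    Subgroup.mem_center_iff.mp (Sd.mem_center_iff (a := ⟨half k, false⟩).mpr ⟨rfl, Or.inr rfl⟩) x]

theorem SData.le_cen (d : SData D ι) :
    D ≤ Subgroup.centralizer ((Subgroup.zpowers (zsd ι) : Subgroup G) : Set G) := by
  intro y hy
  rw [Subgroup.zpowers_eq_closure, Subgroup.centralizer_closure, Subgroup.mem_centralizer_singleton_iff]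
  exact d.zsd_comm hy

theorem SData.rot_ne_one (d : SData D ι) {i : ZMod (2 ^ (k + 3))} (hi : i ≠ 0) : ι ⟨i, false⟩ ≠ 1 := fun he =>
  hi (by
    rw [← map_one ι, d.inj.eq_iff] at he
    exact congrArg Sd.i he)

theorem SData.refl_ne_one (d : SData D ι) (i : ZMod (2 ^ (k + 3))) : ι ⟨i, true⟩ ≠ 1 := fun he => by
  rw [← map_one ι, d.inj.eq_iff] at he
  exact Bool.noConfusion (congrArg Sd.e he)

/-- The powers of the generator. -/
def rotS {k : ℕ} (ι : Sd k →* G) : Multiplicative (ZMod (2 ^ (k + 3))) →* G :=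
  MonoidHom.mk' (fun i => ι ⟨i.toAdd, false⟩) fun a b => by rw [← map_mul, Sd.rot_mul]; rfl

theorem mem_rotS {y : G} : y ∈ (rotS ι).range ↔ ∃ i, ι ⟨i, false⟩ = y :=
  ⟨fun ⟨i, hi⟩ => ⟨i.toAdd, hi⟩, fun ⟨i, hi⟩ => ⟨Multiplicative.ofAdd i, hi⟩⟩

/-- Rotations of the same order generate the same subgroup. -/
theorem SData.zpowers_eq {l l' : ZMod (2 ^ (k + 3))}
    (ho : orderOf (ι ⟨l', false⟩) = orderOf (ι ⟨l, false⟩)) :
    Subgroup.zpowers (ι ⟨l', false⟩) = Subgroup.zpowers (ι ⟨l, false⟩) := by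
  have hcyc : IsCyclic (rotS ι).range := isCyclic_of_surjective _ (rotS ι).rangeRestrict_surjective
  have : Finite (rotS ι).range := Finite.of_surjective _ (rotS ι).rangeRestrict_surjective
  have := Fintype.ofFinite (rotS ι).range
  set a : (rotS ι).range := ⟨_, mem_rotS.mpr ⟨l, rfl⟩⟩ with ha
  set b : (rotS ι).range := ⟨_, mem_rotS.mpr ⟨l', rfl⟩⟩ with hb
  have hoa : orderOf a = orderOf (ι ⟨l, false⟩) := Subgroup.orderOf_mk _ _
  have hob : orderOf b = orderOf (ι ⟨l', false⟩) := Subgroup.orderOf_mk _ _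
  suffices hs : Subgroup.zpowers b = Subgroup.zpowers a by
    have := congrArg (Subgroup.map (rotS ι).range.subtype) hs
    rwa [MonoidHom.map_zpowers, MonoidHom.map_zpowers] at this
  set n := orderOf (ι ⟨l, false⟩) with hn
  have hpos : 0 < n := hoa ▸ orderOf_pos a
  have hsub : ∀ c : (rotS ι).range, orderOf c = n → (Subgroup.zpowers c : Set (rotS ι).range).toFinset =
      Finset.univ.filter fun x => x ^ n = 1 := fun c hc => by
    refine Finset.eq_of_subset_of_card_le (fun x hx => ?_) ?_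
    · rw [Set.mem_toFinset, SetLike.mem_coe] at hx
      refine Finset.mem_filter.mpr ⟨Finset.mem_univ _, orderOf_dvd_iff_pow_eq_one.mp ?_⟩
      rw [← hc]
      exact orderOf_dvd_of_mem_zpowers hx
    · refine (IsCyclic.card_pow_eq_one_le hpos).trans_eq ?_
      rw [Set.toFinset_card, ← Nat.card_eq_fintype_card]
      exact (Nat.card_zpowers c).trans hc |>.symm
  exact SetLike.coe_injective (Set.toFinset_inj.mp ((hsub b (hob.trans ho)).trans (hsub a hoa).symm))

theorem SData.card_cen_reflection [Finite G] (d : SData D ι) (i : ZMod (2 ^ (k + 3))) :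
    Nat.card (D ⊓ Subgroup.centralizer ((Subgroup.zpowers (ι ⟨i, true⟩) : Subgroup G) : Set G) : Subgroup G) = 4 := by
  have hset : ((D ⊓ Subgroup.centralizer ((Subgroup.zpowers (ι ⟨i, true⟩) : Subgroup G) : Set G) : Subgroup G) : Set G) =
      ι '' (({1, ⟨half k, false⟩, ⟨i, true⟩, ⟨i + half k, true⟩} : Finset (Sd k)) : Set (Sd k)) := by
    ext y
    simp only [SetLike.mem_coe, Subgroup.mem_inf, Subgroup.zpowers_eq_closure, Subgroup.centralizer_closure,
      Subgroup.mem_centralizer_singleton_iff, Set.mem_image, Finset.coe_insert, Finset.coe_singleton,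
      Set.mem_insert_iff, Set.mem_singleton_iff]
    constructor
    · rintro ⟨hy, hc⟩
      obtain ⟨a, rfl⟩ := d.surj hy
      rw [← map_mul, ← map_mul, d.inj.eq_iff] at hc
      exact ⟨a, (Sd.commute_refl_iff i a).mp hc, rfl⟩
    · rintro ⟨a, ha, rfl⟩
      exact ⟨d.mem a, by rw [← map_mul, ← map_mul, (Sd.commute_refl_iff i a).mpr ha]⟩
  rw [← SetLike.coe_sort_coe, hset, Nat.card_image_of_injective d.inj, Nat.card_coe_set_eq,
    Set.ncard_coe_finset]
  have h0 : (half k : ZMod (2 ^ (k + 3))) ≠ 0 := Sd.half_ne_zero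
  rw [Finset.card_insert_of_notMem (by simp [Sd.ext_iff, h0.symm]),
    Finset.card_insert_of_notMem (by simp [Sd.ext_iff]), Finset.card_pair (by simp [Sd.ext_iff, h0])]

variable [Fintype G] {M : Ideal AlgInt} [M.IsMaximal] [hp : Fact (Nat.Prime 2)]
  {B : Set (IrrCharacter G)} {e : Set (IrrCharacter (Cen D))}

/-- Conjugation by the defect group. -/
theorem subpair_conj_mem (hM : IsPModular 2 M) (hmax : IsMaximalBrauerPair 2 M B D e) {x w : G} (hw : w ∈ D)
    {b : Set (IrrCharacter (Cen (Subgroup.zpowers x)))} (hb : SubpairLE 2 M (Subgroup.zpowers x) b D e)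
    {b' : Set (IrrCharacter (Cen (Subgroup.zpowers (w * x * w⁻¹))))}
    (hb' : SubpairLE 2 M (Subgroup.zpowers (w * x * w⁻¹)) b' D e) :
    cjPair w (⟨Subgroup.zpowers x, b⟩ : BrauerPairIdx G) = ⟨Subgroup.zpowers (w * x * w⁻¹), b'⟩ := by
  have h1 := subpair_cjPair hM w (a := ⟨Subgroup.zpowers x, b⟩) (b := ⟨D, e⟩) hb
  rw [cjPair_self (a := ⟨D, e⟩) hmax.1.1 hw] at h1
  exact pair_eq_of_le hM hmax.1.1 h1 hb' (by rw [cjPair_fst, map_conj_zpowers])

/-- **Rotations whose subpairs are conjugate are equal or twisted.** -/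
theorem rot_fusion_sd (hM : IsPModular 2 M) (hmax : IsMaximalBrauerPair 2 M B D e) (d : SData D ι)
    {l l' : ZMod (2 ^ (k + 3))} {b : Set (IrrCharacter (Cen (Subgroup.zpowers (ι ⟨l, false⟩))))}
    (hb : SubpairLE 2 M (Subgroup.zpowers (ι ⟨l, false⟩)) b D e)
    {b' : Set (IrrCharacter (Cen (Subgroup.zpowers (ι ⟨l', false⟩))))}
    (hb' : SubpairLE 2 M (Subgroup.zpowers (ι ⟨l', false⟩)) b' D e) {g : G}
    (hg : g * ι ⟨l', false⟩ * g⁻¹ = ι ⟨l, false⟩)
    (hgb : cjPair g (⟨Subgroup.zpowers (ι ⟨l', false⟩), b'⟩ : BrauerPairIdx G) =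
      ⟨Subgroup.zpowers (ι ⟨l, false⟩), b⟩) :
    l' = l ∨ l' = Sd.c k * l := by
  have hP := hmax.1.1
  set a : BrauerPairIdx G := ⟨Subgroup.zpowers (ι ⟨l, false⟩), b⟩ with ha
  have hQ : Subgroup.zpowers (ι ⟨l', false⟩) = Subgroup.zpowers (ι ⟨l, false⟩) :=
    SData.zpowers_eq (by rw [← hg]; exact (SemiconjBy.conj_mk g (ι ⟨l', false⟩)).orderOf_eq)
  have heq : (⟨Subgroup.zpowers (ι ⟨l', false⟩), b'⟩ : BrauerPairIdx G) = a :=
    pair_eq_of_le hM hP (a := ⟨_, b'⟩) hb' hb hQ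
  rw [heq] at hgb
  have hgs : g ∈ stab M a.1 a.2 := by
    refine ⟨Subgroup.mem_normalizer_iff_map_conj_eq.mpr (congrArg Sigma.fst hgb), ?_⟩
    show cjA g (pid M a) = pid M a
    rw [← pid_cjPair, hgb]
  have hDN : D ≤ Subgroup.normalizer ((Subgroup.zpowers (ι ⟨l, false⟩) : Subgroup G) : Set G) := by
    intro y hy
    obtain ⟨w, rfl⟩ := d.surj hy
    rw [Subgroup.mem_normalizer_iff_map_conj_eq]
    show (Subgroup.zpowers (ι ⟨l, false⟩)).map (MulAut.conj (ι w)).toMonoidHom = Subgroup.zpowers (ι ⟨l, false⟩)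
    rw [map_conj_zpowers, ← map_inv, ← map_mul, ← map_mul, Sd.conj_rot]
    refine SData.zpowers_eq ?_
    rw [← Sd.conj_rot w l, map_mul, map_mul, map_inv]
    exact (SemiconjBy.conj_mk (ι w) (ι ⟨l, false⟩)).orderOf_eq.symm
  have hfn : (blockFusion hM hmax).IsFullyNormalized (Subgroup.zpowers (ι ⟨l, false⟩)) :=
    ⟨Subgroup.zpowers_le.mpr (d.mem _), fun Q' _ => by
      show Nat.card (D ⊓ _ : Subgroup G) ≤ Nat.card (D ⊓ _ : Subgroup G); rw [inf_eq_left.mpr hDN]; exact Subgroup.card_le_of_le inf_le_left⟩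
  have hcyc : ∀ y ∈ stab M (Subgroup.zpowers (ι ⟨l, false⟩)) b, IsPRegular 2 y →
      y ∈ Cen (Subgroup.zpowers (ι ⟨l, false⟩)) :=
    fun y hy hr => DihDefect.odd_centralizes_cyclic
      (d.isPGroup.to_le (Subgroup.zpowers_le.mpr (d.mem _))) hy.1 hr
  obtain ⟨v, hv, c, hc, hvc⟩ := exists_mul_of_mem_sup
    (H := D ⊓ Subgroup.normalizer ((Subgroup.zpowers (ι ⟨l, false⟩) : Subgroup G) : Set G))
    (K := Cen (Subgroup.zpowers (ι ⟨l, false⟩)))
    (fun y hy => mem_normalizer_centralizer hy.2)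
    (sup_cen_eq_stab hM (blockFusion_spec hM hmax) hb hfn hcyc hgs)
  have hcx : c * ι ⟨l', false⟩ = ι ⟨l', false⟩ * c :=
    (Subgroup.mem_centralizer_iff.mp hc _ (hQ ▸ Subgroup.mem_zpowers (ι ⟨l', false⟩))).symm
  obtain ⟨w, rfl⟩ := d.surj hv.1
  rw [hvc, show ι w * c * ι ⟨l', false⟩ * (ι w * c)⁻¹ = ι w * (c * ι ⟨l', false⟩) * c⁻¹ * (ι w)⁻¹ by group, hcx,
    show ι w * (ι ⟨l', false⟩ * c) * c⁻¹ * (ι w)⁻¹ = ι w * ι ⟨l', false⟩ * (ι w)⁻¹ by group, ← map_inv, ← map_mul,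
    ← map_mul, d.inj.eq_iff, Sd.conj_rot] at hg
  have hg' := congrArg Sd.i hg
  rcases w with ⟨i, _ | _⟩
  · exact Or.inl hg'
  · exact Or.inr (by rw [show l = Sd.c k * l' from hg'.symm, Sd.c_c_mul])

end CfsgLib.SDDefect
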