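import Mathlib

/-!
# Integral forms of rank one and sums of squares

* `rank_one_minors`, `rank_one_int_form`: a symmetric integral matrix `P` with `P² = q P` and trace
  `q` has vanishing minors; for `q` a power of two and an odd diagonal entry it is `u uᵀ`;
* `two_pow_split`: `A + C = 2 ^ s` with `A C` a square;
* `count_one`, `count_two`: the sums of squares met in semidihedral defect groups.
-/

set_option autoImplicit false

namespace CfsgLib.SDDefect

open scoped Classical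

variable {α : Type*}

/-- Vanishing minors. -/
theorem rank_one_minors (S : Finset α) (P : α → α → ℤ) {q : ℤ} (hq : 0 < q)
    (hsym : ∀ x ∈ S, ∀ y ∈ S, P x y = P y x)
    (hidem : ∀ x ∈ S, ∀ y ∈ S, ∑ z ∈ S, P x z * P z y = q * P x y) (htr : ∑ x ∈ S, P x x = q) :
    (∀ x ∈ S, 0 ≤ P x x) ∧ ∀ x ∈ S, ∀ y ∈ S, P x y * P x y = P x x * P y y := by
  have hsq : ∀ x ∈ S, ∑ y ∈ S, P x y * P x y = q * P x x := fun x hx => by
    rw [← hidem x hx x hx]
    exact Finset.sum_congr rfl fun y hy => by rw [hsym x hx y hy]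
  have hdiag : ∀ x ∈ S, 0 ≤ P x x := fun x hx => by
    have h1 : 0 ≤ q * P x x := (hsq x hx).symm ▸ Finset.sum_nonneg fun y _ => mul_self_nonneg _
    exact nonneg_of_mul_nonneg_right (by rwa [mul_comm] at h1 ⊢) hq
  refine ⟨hdiag, fun x hx y hy => ?_⟩
  have hcs : ∀ a ∈ S, ∀ b ∈ S, 0 ≤ P a a * P b b - P a b * P a b := fun a ha b hb => by
    have h1 : (∑ z ∈ S, P a z * P b z) ^ 2 ≤ (∑ z ∈ S, P a z ^ 2) * ∑ z ∈ S, P b z ^ 2 :=
      Finset.sum_mul_sq_le_sq_mul_sq S _ _
    simp only [pow_two] at h1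
    rw [hsq a ha, hsq b hb, Finset.sum_congr rfl fun z hz => by rw [hsym b hb z hz],
      hidem a ha b hb] at h1
    have h2 : 0 ≤ q * q * (P a a * P b b - P a b * P a b) := by linarith
    exact nonneg_of_mul_nonneg_right h2 (mul_pos hq hq)
  have h0 : ∑ a ∈ S, ∑ b ∈ S, (P a a * P b b - P a b * P a b) = 0 := by
    simp only [Finset.sum_sub_distrib]
    rw [← Finset.sum_mul_sum, htr, Finset.sum_congr rfl hsq, ← Finset.mul_sum, htr, sub_self]
  have h3 := (Finset.sum_eq_zero_iff_of_nonneg fun b hb => hcs x hx b hb).mp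
    ((Finset.sum_eq_zero_iff_of_nonneg fun a ha => Finset.sum_nonneg fun b hb => hcs a ha b hb).mp h0 x hx) y hy
  linarith

/-- A rank one form with trace a power of two is a square. -/
theorem rank_one_int_form (S : Finset α) (P : α → α → ℤ) (d : ℕ)
    (hsym : ∀ x ∈ S, ∀ y ∈ S, P x y = P y x)
    (hidem : ∀ x ∈ S, ∀ y ∈ S, ∑ z ∈ S, P x z * P z y = 2 ^ d * P x y) (htr : ∑ x ∈ S, P x x = 2 ^ d)
    {x₀ : α} (hx₀ : x₀ ∈ S) (hodd : Odd (P x₀ x₀)) :
    ∃ u : α → ℤ, (∀ x ∈ S, ∀ y ∈ S, P x y = u x * u y) ∧ ∑ x ∈ S, u x * u x = 2 ^ d := by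
  obtain ⟨hdiag, hmin⟩ := rank_one_minors S P (by positivity) hsym hidem htr
  set p := P x₀ x₀ with hp
  have hp0 : p ≠ 0 := fun h => by simp [h] at hodd
  set x : α → ℤ := P x₀ with hx
  have hprod : ∀ a ∈ S, ∀ b ∈ S, p * P a b = x a * x b := by
    intro a ha b hb
    have h1 := hidem a ha b hb
    -- the Gram expansion of `(p e_a - x a e₀)`
    have key : ∀ c ∈ S, p * P a c = x a * x c := by
      have hz : ∑ c ∈ S, (p * P a c - x a * x c) * (p * P a c - x a * x c) = 0 := by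
        have e1 : ∑ c ∈ S, P a c * P a c = 2 ^ d * P a a := by
          rw [← hidem a ha a ha]
          exact Finset.sum_congr rfl fun c hc => by rw [hsym a ha c hc]
        have e2 : ∑ c ∈ S, P a c * x c = 2 ^ d * x a := by
          rw [show x a = P a x₀ from hsym x₀ hx₀ a ha, ← hidem a ha x₀ hx₀]
          exact Finset.sum_congr rfl fun c hc => by rw [hx, hsym x₀ hx₀ c hc]
        have e3 : ∑ c ∈ S, x c * x c = 2 ^ d * p := by
          rw [hp, ← hidem x₀ hx₀ x₀ hx₀]
          exact Finset.sum_congr rfl fun c hc => by rw [hx, hsym x₀ hx₀ c hc]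
        rw [Finset.sum_congr rfl fun c _ => show (p * P a c - x a * x c) * (p * P a c - x a * x c) =
          p * p * (P a c * P a c) - 2 * p * x a * (P a c * x c) + x a * x a * (x c * x c) by ring,
          Finset.sum_add_distrib, Finset.sum_sub_distrib, ← Finset.mul_sum, ← Finset.mul_sum, ← Finset.mul_sum,
          e1, e2, e3]
        linear_combination (-(p * 2 ^ d)) * hmin x₀ hx₀ a ha
      intro c hc
      have := (Finset.sum_eq_zero_iff_of_nonneg fun c _ => mul_self_nonneg _).mp hz c hc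
      exact sub_eq_zero.mp (mul_self_eq_zero.mp this)
    exact key b hb
  set g := S.gcd x with hg
  have hgdvd : ∀ a ∈ S, g ∣ x a := fun a ha => Finset.gcd_dvd ha
  have hg0 : g ≠ 0 := fun h => by
    have := Finset.gcd_eq_zero_iff.mp h x₀ hx₀
    exact hp0 this
  obtain ⟨c, hc, hc1⟩ := Finset.extract_gcd x ⟨x₀, hx₀⟩
  have hc0 : p = g * c x₀ := hc x₀ hx₀
  have hgodd : Odd g := (Int.odd_mul.mp (hc0 ▸ hodd)).1
  -- `c x₀ ∣ g`
  have hpg : c x₀ ∣ g := by
    have h1 : ∀ a ∈ S, c x₀ ∣ g * c a := fun a ha => by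
      have h2 : ∀ b ∈ S, c x₀ ∣ g * c a * c b := fun b hb => by
        have := hprod a ha b hb
        rw [hc a ha, hc b hb, hc0] at this
        exact ⟨P a b, mul_left_cancel₀ hg0 (by linear_combination -this)⟩
      have h4 : c x₀ ∣ S.gcd (fun b => g * c a * c b) := Finset.dvd_gcd h2
      rw [Finset.gcd_mul_left, hc1, mul_one] at h4
      exact dvd_normalize_iff.mp h4
    have h5 : c x₀ ∣ S.gcd (fun a => g * c a) := Finset.dvd_gcd h1
    rw [Finset.gcd_mul_left, hc1, mul_one] at h5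
    exact dvd_normalize_iff.mp h5
  obtain ⟨t, ht⟩ := hpg
  have hc00 : c x₀ ≠ 0 := fun h => hp0 (by rw [hc0, h, mul_zero])
  have hP : ∀ a ∈ S, ∀ b ∈ S, P a b = t * (c a * c b) := fun a ha b hb => by
    have := hprod a ha b hb
    rw [hc a ha, hc b hb, hc0, ← hg] at this
    refine mul_left_cancel₀ (mul_ne_zero hg0 hc00) ?_
    linear_combination this + g * (c a * c b) * ht
  have htsum : t * ∑ a ∈ S, c a * c a = 2 ^ d := by
    rw [Finset.mul_sum, ← htr]
    exact Finset.sum_congr rfl fun a ha => (hP a ha a ha).symm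
  have htodd : Odd t := (Int.odd_mul.mp (ht ▸ hgodd)).2
  have ht1 : t = 1 := by
    have hpos : 0 ≤ t := by
      have h1 := hdiag x₀ hx₀
      rw [hP x₀ hx₀ x₀ hx₀] at h1
      exact nonneg_of_mul_nonneg_left h1 (mul_self_pos.mpr hc00)
    have h2 : t.natAbs ∣ 2 ^ d := by
      have := Int.natAbs_dvd_natAbs.mpr (Dvd.intro _ htsum)
      simpa [Int.natAbs_pow] using this
    obtain ⟨i, -, hi⟩ := (Nat.dvd_prime_pow Nat.prime_two).mp h2
    rcases Nat.eq_zero_or_pos i with rfl | hipos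
    · simp at hi; omega
    · exfalso
      have : Odd t.natAbs := Int.natAbs_odd.mpr htodd
      rw [hi] at this
      exact Nat.not_even_iff_odd.mpr this (Nat.even_pow.mpr ⟨even_two, by omega⟩)
  refine ⟨c, fun a ha b hb => by rw [hP a ha b hb, ht1, one_mul], ?_⟩
  rw [ht1, one_mul] at htsum
  exact htsum

/-- Two even or odd numbers with a power of two as sum and a square as product. -/
theorem two_pow_split : ∀ (s A C r : ℕ), A + C = 2 ^ s → A * C = r * r → A = 0 ∨ C = 0 ∨ A = C := by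
  intro s
  induction s with
  | zero => intro A C r h _; omega
  | succ s ih =>
    intro A C r h hr
    rcases Nat.even_or_odd A with hA | hA
    · have hC : Even C := by
        have : Even (A + C) := h ▸ Nat.even_pow.mpr ⟨even_two, by omega⟩
        exact (Nat.even_add.mp this).mp hA
      obtain ⟨a, rfl⟩ := hA
      obtain ⟨c, rfl⟩ := hC
      have hr2 : Even r := by
        have : Even (r * r) := hr ▸ (Nat.even_mul.mpr (Or.inl ⟨a, rfl⟩))
        exact (Nat.even_mul.mp this).elim id id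
      obtain ⟨t, rfl⟩ := hr2
      rcases ih a c t (by rw [pow_succ] at h; omega) (by nlinarith) with e | e | e
      · left; omega
      · right; left; omega
      · right; right; omega
    · rcases Nat.eq_zero_or_pos C with hC0 | hC0
      · exact Or.inr (Or.inl hC0)
      rcases Nat.eq_zero_or_pos A with hA0 | hA0
      · exact Or.inl hA0
      have hcop : Nat.Coprime A C := by
        have h1 : Nat.gcd A C ∣ 2 ^ (s + 1) := h ▸ Nat.dvd_add (Nat.gcd_dvd_left A C) (Nat.gcd_dvd_right A C)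
        obtain ⟨i, -, hi⟩ := (Nat.dvd_prime_pow Nat.prime_two).mp h1
        show Nat.gcd A C = 1
        rcases Nat.eq_zero_or_pos i with rfl | hip
        · simpa using hi
        · exfalso
          have h2 : 2 ∣ A := ((dvd_pow_self 2 (by omega : i ≠ 0)).trans hi.symm.dvd).trans (Nat.gcd_dvd_left A C)
          exact Nat.not_even_iff_odd.mpr hA (even_iff_two_dvd.mpr h2)
      obtain ⟨a, ha⟩ := exists_eq_pow_of_mul_eq_pow (k := 2) (Nat.isUnit_iff.mpr hcop)
        (show A * C = r ^ 2 by rw [sq]; exact hr)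
      obtain ⟨c, hc⟩ := exists_eq_pow_of_mul_eq_pow (k := 2) (Nat.isUnit_iff.mpr hcop.symm)
        (show C * A = r ^ 2 by rw [sq, mul_comm]; exact hr)
      rcases Nat.eq_zero_or_pos s with rfl | hs
      · omega
      exfalso
      have hC : Odd C := by
        have : Even (A + C) := h ▸ Nat.even_pow.mpr ⟨even_two, by omega⟩
        exact Nat.not_even_iff_odd.mp fun hC => Nat.not_even_iff_odd.mpr hA ((Nat.even_add.mp this).mpr hC)
      obtain ⟨i, rfl⟩ : ∃ i, a = 2 * i + 1 := by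
        rcases Nat.even_or_odd a with ⟨i, rfl⟩ | ⟨i, rfl⟩
        · exact absurd (ha ▸ hA) (Nat.not_odd_iff_even.mpr (Nat.even_pow.mpr ⟨⟨i, rfl⟩, by norm_num⟩))
        · exact ⟨i, rfl⟩
      obtain ⟨j, rfl⟩ : ∃ j, c = 2 * j + 1 := by
        rcases Nat.even_or_odd c with ⟨j, rfl⟩ | ⟨j, rfl⟩
        · exact absurd (hc ▸ hC) (Nat.not_odd_iff_even.mpr (Nat.even_pow.mpr ⟨⟨j, rfl⟩, by norm_num⟩))
        · exact ⟨j, rfl⟩
      have h4 : (4 : ℕ) ∣ 2 ^ (s + 1) := (show (4 : ℕ) = 2 ^ 2 from rfl) ▸ pow_dvd_pow 2 (by omega)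
      rw [← h, ha, hc] at h4
      obtain ⟨t, ht⟩ := h4
      ring_nf at ht
      omega

/-- Squares of odd numbers. -/
theorem odd_sq_form {n : ℤ} (hn : Odd n) : (n = 1 ∨ n = -1) ∨ ∃ a : ℤ, 1 ≤ a ∧ n * n = 1 + 8 * a := by
  obtain ⟨j, rfl⟩ := hn
  by_cases h : j = 0 ∨ j = -1
  · left; rcases h with rfl | rfl <;> simp
  · right
    obtain ⟨b, hb⟩ := Int.even_mul_succ_self j
    refine ⟨b, ?_, by linear_combination 4 * hb⟩
    rcases le_or_gt j 0 with hj | hj
    · have : j ≤ -2 := by omega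
      nlinarith
    · nlinarith

/-- Four odd entries and the others even and nonzero. -/
theorem count_one (S : Finset α) (f : α → ℤ) {h : ℕ} (hf : ∑ x ∈ S, f x * f x = 4 * (h : ℤ))
    (h4 : (S.filter fun x => Odd (f x)).card = 4) (hne : ∀ x ∈ S, f x ≠ 0) (hk : h + 1 ≤ S.card) :
    (S.card = h + 3 ∧ (∀ x ∈ S, Odd (f x) → (f x = 1 ∨ f x = -1)) ∧
        ∀ x ∈ S, ¬ Odd (f x) → (f x = 2 ∨ f x = -2)) ∨
      (S.card = h + 1 ∧ (∃ x ∈ S, Odd (f x) ∧ f x ≠ 1 ∧ f x ≠ -1) ∧
        ∀ x ∈ S, ¬ Odd (f x) → (f x = 2 ∨ f x = -2)) := by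
  have hsplit := Finset.sum_filter_add_sum_filter_not S (fun x => Odd (f x)) (fun x => f x * f x)
  have hcard := Finset.card_filter_add_card_filter_not (s := S) (fun x => Odd (f x))
  rw [hf] at hsplit
  set O := S.filter fun x => Odd (f x) with hO
  set E := S.filter fun x => ¬ Odd (f x) with hE
  have hO1 : ∀ x ∈ O, f x * f x - 1 = 0 ∨ 8 ≤ f x * f x - 1 := fun x hx => by
    rcases odd_sq_form (Finset.mem_filter.mp hx).2 with (e | e) | ⟨a, ha, e⟩
    · left; simp [e]
    · left; simp [e]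
    · right; omega
  have hE1 : ∀ x ∈ E, f x * f x - 4 = 0 ∨ 12 ≤ f x * f x - 4 := fun x hx => by
    obtain ⟨hxS, hev⟩ := Finset.mem_filter.mp hx
    obtain ⟨j, hj⟩ := Int.not_odd_iff_even.mp hev
    have hj0 : j ≠ 0 := fun e => hne x hxS (by omega)
    by_cases h1 : j = 1 ∨ j = -1
    · left; rcases h1 with rfl | rfl <;> simp [hj]
    · right
      rcases le_or_gt j 0 with h2 | h2
      · have : j ≤ -2 := by omega
        rw [hj]; nlinarith
      · have : 2 ≤ j := by omega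
        rw [hj]; nlinarith
  have hsumO : ∑ x ∈ O, (f x * f x - 1) = ∑ x ∈ O, f x * f x - 4 := by
    rw [Finset.sum_sub_distrib, Finset.sum_const, h4]; simp
  have hsumE : ∑ x ∈ E, (f x * f x - 4) = ∑ x ∈ E, f x * f x - 4 * (E.card : ℤ) := by
    rw [Finset.sum_sub_distrib, Finset.sum_const, nsmul_eq_mul]; ring
  have hO0 : 0 ≤ ∑ x ∈ O, (f x * f x - 1) := Finset.sum_nonneg fun x hx => by rcases hO1 x hx with e | e <;> omega
  have hE0 : 0 ≤ ∑ x ∈ E, (f x * f x - 4) := Finset.sum_nonneg fun x hx => by rcases hE1 x hx with e | e <;> omega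
  have hEzero : ∀ x ∈ E, f x * f x - 4 = 0 := fun x hx => (hE1 x hx).resolve_right fun e => by
    have := Finset.single_le_sum (f := fun x => f x * f x - 4)
      (fun y hy => by rcases hE1 y hy with e' | e' <;> omega) hx
    omega
  have hE2 : ∀ x ∈ S, ¬ Odd (f x) → (f x = 2 ∨ f x = -2) := fun x hx hev =>
    mul_self_eq_mul_self_iff.mp (show f x * f x = 2 * 2 by
      have := hEzero x (Finset.mem_filter.mpr ⟨hx, hev⟩); omega)
  rw [Finset.sum_eq_zero hEzero] at hsumE
  by_cases hall : ∀ x ∈ O, f x * f x - 1 = 0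
  · left
    rw [Finset.sum_eq_zero hall] at hsumO
    refine ⟨by omega, fun x hx ho => ?_, hE2⟩
    exact mul_self_eq_mul_self_iff.mp (show f x * f x = 1 * 1 by
      have := hall x (Finset.mem_filter.mpr ⟨hx, ho⟩); omega)
  · right
    push Not at hall
    obtain ⟨x, hx, hxne⟩ := hall
    have hx8 := (hO1 x hx).resolve_left hxne
    have h8 := Finset.single_le_sum (f := fun x => f x * f x - 1)
      (fun y hy => by rcases hO1 y hy with e' | e' <;> omega) hx

    refine ⟨by omega, ⟨x, (Finset.mem_filter.mp hx).1, (Finset.mem_filter.mp hx).2, fun e => ?_, fun e => ?_⟩, hE2⟩ <;>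
      rw [e] at hxne <;> exact hxne (by norm_num)

/-- The second vector isolates at most one zero of the first. -/
theorem count_two (S : Finset α) (f g : α → ℤ) {h : ℕ} {N : ℤ} (hN : N = 4 ∨ N = 8)
    (hpar : N = 8 → ∀ x ∈ S, (Odd (g x) ↔ Odd (f x)))
    (hf : ∑ x ∈ S, f x * f x = 4 * (h : ℤ)) (hg : ∑ x ∈ S, g x * g x = N)
    (h4 : (S.filter fun x => Odd (f x)).card = 4)
    (hcov : ∀ x ∈ S, f x = 0 → g x ≠ 0 ∧ ∀ y ∈ S, Odd (f y) → g y ≠ 0) (hk : h + 2 ≤ S.card) :
    (∀ x ∈ S, f x ≠ 0) ∨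
      ∃ r ∈ S, f r = 0 ∧ (g r = 2 ∨ g r = -2) ∧ N = 8 ∧
        (∀ x ∈ S, Odd (f x) → g x = 1 ∨ g x = -1) ∧
        (∀ x ∈ S, x ≠ r → ¬ Odd (f x) → g x = 0) ∧ (∀ x ∈ S, x ≠ r → ¬ Odd (f x) → f x = 2 ∨ f x = -2) ∧
        (S.card = h + 4 ∨ S.card = h + 2) := by
  by_cases hz : ∀ x ∈ S, f x ≠ 0
  · exact Or.inl hz
  right
  push Not at hz
  obtain ⟨r, hr, hfr⟩ := hz
  obtain ⟨hgr, hgO⟩ := hcov r hr hfr
  set O := S.filter fun x => Odd (f x) with hO
  have hrO : r ∉ O := fun hm => by simp [hO, hfr] at hm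
  have hsub : insert r O ⊆ S := Finset.insert_subset hr (Finset.filter_subset _ _)
  have hsq : ∀ n : ℤ, n ≠ 0 → 1 ≤ n * n := fun n hn => by nlinarith [mul_self_pos.mpr hn]
  have hlow : ∀ x ∈ O, 1 ≤ g x * g x := fun x hx =>
    hsq _ (hgO x (Finset.mem_filter.mp hx).1 (Finset.mem_filter.mp hx).2)
  have hdec := (Finset.sum_sdiff hsub (f := fun x => g x * g x)).trans hg
  rw [Finset.sum_insert hrO] at hdec
  have hrest : 0 ≤ ∑ x ∈ S \ insert r O, g x * g x := Finset.sum_nonneg fun x _ => mul_self_nonneg _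
  have hOs : (4 : ℤ) ≤ ∑ x ∈ O, g x * g x := by
    have := Finset.card_nsmul_le_sum O (fun x => g x * g x) 1 hlow
    rw [nsmul_eq_mul, mul_one, h4] at this
    exact_mod_cast this
  have hN8 : N = 8 := hN.resolve_left fun e => by have := hsq _ hgr; omega
  have hgrev : ¬ Odd (g r) := fun e => by
    have := (hpar hN8 r hr).mp e
    simp [hfr] at this
  obtain ⟨j, hj⟩ := Int.not_odd_iff_even.mp hgrev
  have hj0 : j ≠ 0 := fun e => hgr (by omega)
  have hgr4 : g r * g r = 4 * (j * j) := by rw [hj]; ring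
  have hj1 := hsq _ hj0
  have hjj : j * j = 1 := by omega
  have hgr2 : g r = 2 ∨ g r = -2 := mul_self_eq_mul_self_iff.mp (show g r * g r = 2 * 2 by omega)
  have hOone : ∀ x ∈ O, g x * g x = 1 := fun x hx => by
    have h1 : ∑ y ∈ O, (g y * g y - 1) = 0 := by
      rw [Finset.sum_sub_distrib, Finset.sum_const, h4]; simp; omega
    have := (Finset.sum_eq_zero_iff_of_nonneg fun y hy => by have := hlow y hy; omega).mp h1 x hx
    omega
  have hzero : ∀ x ∈ S, x ≠ r → ¬ Odd (f x) → g x = 0 := fun x hx hxr ho => by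
    have h1 : ∑ y ∈ S \ insert r O, g y * g y = 0 := by omega
    exact mul_self_eq_zero.mp ((Finset.sum_eq_zero_iff_of_nonneg fun y _ => mul_self_nonneg _).mp h1 x
      (Finset.mem_sdiff.mpr ⟨hx, fun hm => by
        rcases Finset.mem_insert.mp hm with e | e
        · exact hxr e
        · exact ho (Finset.mem_filter.mp e).2⟩))
  have hne : ∀ x ∈ S.erase r, f x ≠ 0 := fun x hx e => by
    obtain ⟨hxr, hxS⟩ := Finset.mem_erase.mp hx
    exact (hcov x hxS e).1 (hzero x hxS hxr (by simp [e]))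
  have hfe : ∑ x ∈ S.erase r, f x * f x = 4 * (h : ℤ) := by
    rw [← hf, Finset.sum_erase]; simp [hfr]
  have h4e : ((S.erase r).filter fun x => Odd (f x)).card = 4 := by
    rw [Finset.filter_erase, Finset.erase_eq_of_notMem hrO]; exact h4
  have hcard := Finset.card_erase_add_one hr
  refine ⟨r, hr, hfr, hgr2, hN8, fun x hx ho => ?_, hzero, ?_⟩
  · exact mul_self_eq_mul_self_iff.mp (show g x * g x = 1 * 1 by
      rw [one_mul]; exact hOone x (Finset.mem_filter.mpr ⟨hx, ho⟩))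
  rcases count_one (S.erase r) f hfe h4e hne (by omega) with ⟨hc, -, he⟩ | ⟨hc, -, he⟩
  · exact ⟨fun x hx hxr ho => he x (Finset.mem_erase.mpr ⟨hxr, hx⟩) ho, Or.inl (by omega)⟩
  · exact ⟨fun x hx hxr ho => he x (Finset.mem_erase.mpr ⟨hxr, hx⟩) ho, Or.inr (by omega)⟩

end CfsgLib.SDDefect
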