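import Cfsg.Agent.Lib.BlockArith.SDDefect.Columns
import Cfsg.Agent.Lib.BlockArith.SDDefect.IntForm
import Cfsg.Agent.Lib.BlockArith.KleinDefect

/-!
# Blocks with one Brauer character

* `blockMat_rank_one`: the block matrix of such a block is `u uᵀ`;
* `blockRank_eq_one_of_cyclic`: blocks with cyclic defect group for the prime two;
* `classInner_shift_center`, `centScal_pow`: shifts by central elements.
-/

set_option autoImplicit false

noncomputable section

open scoped ComplexConjugate Classical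

namespace CfsgLib.SDDefect

open Cfsg CfsgLib.Blocks CfsgLib.BlockArith CfsgLib.Char CfsgLib.BrauerPairs CfsgLib.NilBlock

universe u

variable {G : Type u} [Group G] [Fintype G] {M : Ideal AlgInt} [M.IsMaximal] [hp : Fact (Nat.Prime 2)]
  {B : Set (IrrCharacter G)}

/-- A block matrix of rank one is a square. -/
theorem blockMat_rank_one (hM : IsPModular 2 M) (hB : IsPBlock M B) (hl : blockRank 2 B = 1) :
    ∃ u : IrrCharacter G → ℤ, (∀ φ ∈ B, ∀ φ' ∈ B, blockMat 2 B φ φ' = u φ * u φ') ∧
      ∑ φ ∈ bset B, u φ * u φ = 2 ^ blockDefect 2 B := by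
  obtain ⟨χ₀, hχ₀, h0⟩ := exists_height_zero (p := 2) hM hB
  have htr : ∑ φ ∈ bset B, blockMat 2 B φ φ = 2 ^ blockDefect 2 B := by
    have h := CycQuotBound.sum_blockMat_self (p := 2) hM hB
    rw [hl, mul_one, show Finset.univ.filter (fun i => i ∈ B) = bset B by ext i; simp] at h
    exact_mod_cast h
  have hidem : ∀ φ ∈ bset B, ∀ φ' ∈ bset B, ∑ ψ ∈ bset B, blockMat 2 B φ ψ * blockMat 2 B ψ φ' =
      2 ^ blockDefect 2 B * blockMat 2 B φ φ' := fun φ hφ φ' hφ' => by
    have h := blockMat_sum_mul hM hB (mem_bset.mp hφ) (mem_bset.mp hφ')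
    rw [← Finset.sum_subset (Finset.subset_univ (bset B)) fun ψ _ hψ => by
      rw [blockMat, if_neg fun hh => hψ (mem_bset.mpr hh.2), zero_mul]] at h
    exact_mod_cast h
  obtain ⟨u, hu, hn⟩ := rank_one_int_form (bset B) (fun φ φ' => blockMat 2 B φ φ') (blockDefect 2 B)
    (fun φ _ φ' _ => blockMat_symm φ φ') hidem htr (mem_bset.mpr hχ₀) (by
      have := (not_dvd_blockMat_iff hM hB hχ₀ hχ₀).mpr h0
      rw [h0, zero_add, pow_one] at this
      exact Int.not_even_iff_odd.mp fun he => this (by exact_mod_cast even_iff_two_dvd.mp he))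
  exact ⟨u, fun φ hφ φ' hφ' => hu φ (mem_bset.mpr hφ) φ' (mem_bset.mpr hφ'), hn⟩

/-- A cyclic defect group for the prime two gives one Brauer character. -/
theorem blockRank_eq_one_of_cyclic (hM : IsPModular 2 M) (hB : IsPBlock M B) {P : Subgroup G}
    (hPD : IsDefectGroup 2 M B P) (hcyc : IsCyclic P) : blockRank 2 B = 1 := by
  refine (Cyclic.nilpotent_iff_rank_one hM hB hPD hcyc).mp (Cyclic.isNilpotentBlock_of_inertOne hM hB ?_)
  intro R e hmaxR
  obtain ⟨c, hmaxP⟩ := exists_maximal_at hM hB hPD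
  obtain ⟨g, hg⟩ := exists_conj_le_maximal hM (a := ⟨R, e⟩) (b := ⟨P, c⟩) hmaxP hmaxR.1
  have hle : R.map (MulAut.conj g).toMonoidHom ≤ P := subgroup_le hg
  have hcycR : IsCyclic R := by
    have h1 : IsCyclic (R.map (MulAut.conj g).toMonoidHom) :=
      isCyclic_of_injective (Subgroup.inclusion hle) (Subgroup.inclusion_injective hle)
    exact (Subgroup.equivMapOfInjective R _ (MulEquiv.injective (MulAut.conj g))).isCyclic.mpr h1
  refine ⟨fun x hx y hy => ?_, ?_⟩
  · have := hcycR.commutative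
    exact congrArg Subtype.val (mul_comm' (⟨x, hx⟩ : R) ⟨y, hy⟩)
  by_cases hne : R = ⊥
  · subst hne
    rw [show Cen (⊥ : Subgroup G) = ⊤ from Subgroup.centralizer_eq_top_iff_subset.mpr
      (bot_le (a := Subgroup.center G))]
    exact le_top
  have hn : ((Cen R).subgroupOf (stab M R e)).Normal :=
    (Subgroup.normal_subgroupOf_iff_le_normalizer (cen_le_stab e)).mpr fun t ht =>
      mem_normalizer_centralizer ht.1
  exact Subgroup.relIndex_eq_one.mp (Nat.dvd_one.mp (cyclic_quotient hM hmaxR hcycR hne).2)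

omit hp [M.IsMaximal] in
/-- Shifting by a central element of a subgroup. -/
theorem classInner_shift_center {H : Subgroup G} {y : G} (hy : y ∈ H)
    (hc : (⟨y, hy⟩ : H) ∈ Subgroup.center H) (χ : IrrCharacter G) (φ : IrrCharacter H) :
    classInner (fun c : H => (χ : G → ℂ) (y * (c : G))) (φ : H → ℂ) =
      centScal φ ⟨y, hy⟩ * classInner (fun c : H => (χ : G → ℂ) c) (φ : H → ℂ) := by
  have hres := classFun_eq_sum (isClassFunction_of_isCharacter (isCharacter_res H (isCharacter_of_isIrr χ.2)))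
  have hval : (fun c : H => (χ : G → ℂ) (y * (c : G))) =
      ∑ φ' : IrrCharacter H,
        (centScal φ' ⟨y, hy⟩ * classInner (fun c : H => (χ : G → ℂ) c) (φ' : H → ℂ)) • (φ' : H → ℂ) := by
    funext c
    have h1 := congrFun hres (⟨y, hy⟩ * c)
    simp only [Finset.sum_apply, Pi.smul_apply, smul_eq_mul] at h1 ⊢
    refine h1.trans (Finset.sum_congr rfl fun φ' _ => ?_)
    rw [char_central_mul φ' hc]
    ring
  rw [hval, classInner_sum_left, Finset.sum_eq_single φ (fun φ' _ hne => ?_) (by simp),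
    classInner_smul_left, classInner_irr_self φ.2, mul_one]
  rw [classInner_smul_left, classInner_irr_ne φ'.2 φ.2 fun h' => hne (Subtype.ext h'), mul_zero]

omit hp [M.IsMaximal] in
theorem centScal_pow {C : Type*} [Group C] [Fintype C] (φ : IrrCharacter C) {z : C}
    (hz : z ∈ Subgroup.center C) (n : ℕ) : centScal φ (z ^ n) = centScal φ z ^ n := by
  induction n with
  | zero => rw [pow_zero, pow_zero, centScal_one]
  | succ n ih => rw [pow_succ, pow_succ, centScal_mul φ (pow_mem hz n), ih]

end CfsgLib.SDDefect
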