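import Cfsg.Agent.Lib.BlockArith.SDDefect.Data
import Cfsg.Agent.Lib.BlockArith.SDDefect.Rank

/-!
# The integral vector of the generators of the cyclic maximal subgroup

* `exists_parity_vector`: an integral vector of norm at most four, not zero at height zero;
* `card_height_zero_le`: at most four characters of height zero.
-/

set_option autoImplicit false

noncomputable section

open scoped ComplexConjugate Classical

namespace CfsgLib.SDDefect

open Cfsg CfsgLib.Blocks CfsgLib.BlockArith CfsgLib.Char CfsgLib.BrauerPairs CfsgLib.NilBlock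
open CfsgLib.Invol.QDW

universe u

theorem Sd.c_val (k : ℕ) : (Sd.c k).val = half k - 1 := by
  have h1 : 1 ≤ half k := Nat.one_le_two_pow
  have h2 : Sd.c k = ((half k - 1 : ℕ) : ZMod (2 ^ (k + 3))) := by
    rw [Sd.c, Nat.cast_sub h1, Nat.cast_one]
  rw [h2]
  exact ZMod.val_natCast_of_lt (by
    have : 2 ^ (k + 3) = 2 * half k := by rw [half]; ring
    omega)

theorem geom_odd {ω : ℂ} {h : ℕ} (hω : ω ^ (2 * h) = 1) (hh : Even h) :
    ∑ j ∈ Finset.range h, ω ^ (2 * j + 1) =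
      (h : ℂ) * (((if ω = 1 then (1 : ℤ) else 0) - if ω = -1 then 1 else 0 : ℤ) : ℂ) := by
  by_cases h1 : ω = 1
  · subst h1; norm_num
  by_cases h2 : ω = -1
  · subst h2; norm_num [pow_succ, pow_mul]
  rw [if_neg h1, if_neg h2]
  simp only [sub_self, Int.cast_zero, mul_zero]
  rw [Finset.sum_congr rfl fun j _ => show ω ^ (2 * j + 1) = (ω ^ 2) ^ j * ω by rw [pow_succ, pow_mul],
    ← Finset.sum_mul, geom_sum_eq (fun e => by
    rcases sq_eq_one_iff.mp e with e' | e'
    · exact h1 e'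
    · exact h2 e'), ← pow_mul, hω, sub_self, zero_div, zero_mul]

variable {G : Type u} [Group G] [Fintype G] {M : Ideal AlgInt} [M.IsMaximal] [hp : Fact (Nat.Prime 2)]
  {B : Set (IrrCharacter G)} {D : Subgroup G} {e : Set (IrrCharacter (Cen D))} {k : ℕ} {ι : Sd k →* G}

omit [M.IsMaximal] hp [Fintype G] in
theorem SData.rot_pow (d : SData D ι) (n : ℕ) :
    ι ⟨1, false⟩ ^ n = ι ⟨(n : ZMod (2 ^ (k + 3))), false⟩ := by
  induction n with
  | zero => rw [pow_zero, Nat.cast_zero, Sd.rot_zero, map_one]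
  | succ n ih => rw [pow_succ, ih, ← map_mul, Sd.rot_mul, Nat.cast_succ]

omit [M.IsMaximal] hp [Fintype G] in
theorem SData.orderOf_gen (d : SData D ι) : orderOf (ι ⟨1, false⟩) = 2 ^ (k + 3) := by
  refine Nat.dvd_antisymm ?_ ?_
  · refine orderOf_dvd_of_pow_eq_one ?_
    rw [d.rot_pow, ZMod.natCast_self, Sd.rot_zero, map_one]
  · have h1 := pow_orderOf_eq_one (ι ⟨1, false⟩)
    rw [d.rot_pow, ← map_one ι, d.inj.eq_iff] at h1
    exact (ZMod.natCast_eq_zero_iff _ _).mp (congrArg Sd.i h1)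

omit [M.IsMaximal] hp in
theorem SData.zpowers_pow_odd (d : SData D ι) {n : ℕ} (hn : Odd n) :
    Subgroup.zpowers (ι ⟨1, false⟩ ^ n) = Subgroup.zpowers (ι ⟨1, false⟩) := by
  rw [d.rot_pow]
  refine SData.zpowers_eq ?_
  rw [← d.rot_pow, Nat.Coprime.orderOf_pow]
  rw [d.orderOf_gen]
  exact Nat.Coprime.pow_left _ (Nat.prime_two.coprime_iff_not_dvd.mpr fun h => by
    obtain ⟨j, rfl⟩ := hn; omega)

omit [M.IsMaximal] hp [Fintype G] in
/-- The centraliser of a generator in the defect group. -/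
theorem SData.inf_cen_gen (d : SData D ι) {i : ZMod (2 ^ (k + 3))} (hi : i ≠ 0) (hi' : i ≠ half k) :
    D ⊓ Subgroup.centralizer ((Subgroup.zpowers (ι ⟨i, false⟩) : Subgroup G) : Set G) = (rotS ι).range := by
  ext y
  simp only [Subgroup.mem_inf, Subgroup.zpowers_eq_closure, Subgroup.centralizer_closure,
    Subgroup.mem_centralizer_singleton_iff]
  constructor
  · rintro ⟨hy, hc⟩
    obtain ⟨⟨j, f⟩, rfl⟩ := d.surj hy
    rw [← map_mul, ← map_mul, d.inj.eq_iff] at hc
    have h1 := Sd.conj_rot (⟨j, f⟩ : Sd k) i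
    rw [hc, mul_inv_cancel_right] at h1
    cases f
    · exact mem_rotS.mpr ⟨j, rfl⟩
    · exact ((Sd.c_fixed (congrArg Sd.i h1).symm).elim hi hi').elim
  · intro hy
    obtain ⟨j, rfl⟩ := mem_rotS.mp hy
    exact ⟨d.mem _, by rw [← map_mul, ← map_mul, Sd.rot_mul, Sd.rot_mul, add_comm]⟩

omit [M.IsMaximal] hp [Fintype G] in
theorem SData.card_rotS (d : SData D ι) : Nat.card (rotS ι).range = 2 ^ (k + 3) := by
  rw [← Nat.card_congr (MonoidHom.ofInjective (f := rotS ι) (fun a b h =>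
    Multiplicative.toAdd.injective (congrArg Sd.i (d.inj h)))).toEquiv, Nat.card_congr Multiplicative.toAdd,
    Nat.card_zmod]

/-- The block of the centraliser of the generator. -/
theorem gen_block (hM : IsPModular 2 M) (hmax : IsMaximalBrauerPair 2 M B D e) (d : SData D ι)
    {b : Set (IrrCharacter (Cen (Subgroup.zpowers (ι ⟨1, false⟩))))}
    (hb : SubpairLE 2 M (Subgroup.zpowers (ι ⟨1, false⟩)) b D e) :
    blockDefect 2 b = k + 3 ∧ blockRank 2 b = 1 := by
  have : Fact (1 < 2 ^ (k + 3)) := ⟨Nat.one_lt_two_pow (by omega)⟩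
  have h10 : (1 : ZMod (2 ^ (k + 3))) ≠ 0 := one_ne_zero
  have h1h : (1 : ZMod (2 ^ (k + 3))) ≠ half k := fun he => by
    have h1 := congrArg ZMod.val he
    rw [ZMod.val_one, ZMod.val_natCast_of_lt (by simp [half, pow_succ])] at h1
    simp [half, pow_succ] at h1
    omega
  have hinf := d.inf_cen_gen h10 h1h
  have hbp := isBrauerPair_left (a := ⟨(Subgroup.zpowers (ι ⟨1, false⟩)), b⟩) hb hmax.1.1
  have hfc : (blockFusion hM hmax).IsFullyCentralized (Subgroup.zpowers (ι ⟨1, false⟩)) := by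
    refine ⟨Subgroup.zpowers_le.mpr (d.mem _), fun Q' hQ' => ?_⟩
    obtain ⟨g, rfl, hgf⟩ := (isConj_iff_pair hM (blockFusion_spec hM hmax) hb).mp hQ'
    have hmem : g * ι ⟨1, false⟩ * g⁻¹ ∈ D :=
      subgroup_le hgf (show _ ∈ (Subgroup.zpowers (ι ⟨1, false⟩)).map (MulAut.conj g).toMonoidHom by
        rw [map_conj_zpowers]; exact Subgroup.mem_zpowers _)
    obtain ⟨⟨j, f⟩, hj⟩ := d.surj hmem
    have ho : orderOf (ι ⟨j, f⟩) = 2 ^ (k + 3) := by
      rw [hj]; exact (SemiconjBy.conj_mk g _).orderOf_eq.symm.trans d.orderOf_gen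
    show Nat.card (D ⊓ Cen ((Subgroup.zpowers (ι ⟨1, false⟩)).map (MulAut.conj g).toMonoidHom) : Subgroup G) ≤ Nat.card (D ⊓ Cen (Subgroup.zpowers (ι ⟨1, false⟩)) : Subgroup G)
    rw [map_conj_zpowers, ← hj, hinf]
    cases f with
    | true =>
      exfalso
      have h4 : ι ⟨j, true⟩ ^ 4 = 1 := by
        rw [show (4 : ℕ) = 2 * 2 from rfl, pow_mul, pow_two, pow_two, ← map_mul, ← map_mul, Sd.refl_sq,
          Sd.rot_mul, ← mul_add, Sd.half_add_half, mul_zero, Sd.rot_zero, map_one]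
      have h5 := Nat.le_of_dvd (by norm_num) (ho ▸ orderOf_dvd_of_pow_eq_one h4)
      rw [pow_add] at h5
      have := Nat.one_le_two_pow (n := k)
      omega
    | false =>
      refine le_of_eq ?_
      rw [d.inf_cen_gen (fun e0 => ?_) fun eh => ?_]
      · rw [e0, Sd.rot_zero, map_one, orderOf_one] at ho
        exact absurd ho (Nat.one_lt_two_pow (by omega)).ne
      · rw [eh, show ι ⟨(half k : ZMod (2 ^ (k + 3))), false⟩ = zsd ι from rfl, d.orderOf_zsd, pow_succ] at ho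
        have := Nat.one_lt_two_pow (n := k + 2) (by omega)
        omega
  have hD := (fullyCentralized_iff hM (blockFusion_spec hM hmax) hb).mp hfc
  have hcard : Nat.card ((D ⊓ Cen (Subgroup.zpowers (ι ⟨1, false⟩))).subgroupOf (Cen (Subgroup.zpowers (ι ⟨1, false⟩)))) = 2 ^ (k + 3) := by
    rw [card_subgroupOf' inf_le_right, hinf, d.card_rotS]
  refine ⟨?_, blockRank_eq_one_of_cyclic hM hbp.2 hD ?_⟩
  · refine Nat.pow_right_injective le_rfl ?_
    show 2 ^ blockDefect 2 b = 2 ^ (k + 3)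
    exact ((card_defectGroup hM hbp.2 hD).symm.trans hcard)
  · have hc : IsCyclic (D ⊓ Cen (Subgroup.zpowers (ι ⟨1, false⟩)) : Subgroup G) := by
      rw [hinf]; exact isCyclic_of_surjective _ (rotS ι).rangeRestrict_surjective
    exact (Subgroup.subgroupOfEquivOfLe inf_le_right).isCyclic.mpr hc

set_option maxHeartbeats 1600000 in
/-- **An integral vector of norm at most four, not zero at height zero.** -/
theorem exists_parity_vector (hM : IsPModular 2 M) (hmax : IsMaximalBrauerPair 2 M B D e) (d : SData D ι) :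
    ∃ w : IrrCharacter G → ℤ, (∀ χ ∈ B, blockHeight 2 B (χ : G → ℂ) = 0 → w χ ≠ 0) ∧
      ∑ χ ∈ bset B, w χ * w χ ≤ 4 := by
  have hP := hmax.1.1
  obtain ⟨x₁, hx₁⟩ : ∃ x₁, x₁ = ι ⟨1, false⟩ := ⟨_, rfl⟩
  have hx₁D : x₁ ∈ D := hx₁ ▸ d.mem _
  obtain ⟨b, hb, hind, hbp, hpow⟩ := subsection_data hM hmax hx₁D
  obtain ⟨hdef, hrk⟩ : blockDefect 2 b = k + 3 ∧ blockRank 2 b = 1 := by
    revert b hb hind hbp hpow
    rw [hx₁]
    intro b hb _ _ _
    exact gen_block hM hmax d hb
  obtain ⟨uu, huu, -⟩ := blockMat_rank_one hM hbp.2 hrk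
  have hxC : x₁ ∈ (Cen (Subgroup.zpowers x₁)) := CfsgLib.NilBlock.mem_cen_zpowers.mpr rfl
  set x : (Cen (Subgroup.zpowers x₁)) := ⟨x₁, hxC⟩ with hx
  have hxc : x ∈ Subgroup.center (Cen (Subgroup.zpowers x₁)) := Subgroup.mem_center_iff.mpr fun c => Subtype.ext
    (CfsgLib.NilBlock.mem_cen_zpowers.mp c.2)
  choose mult hmult using fun (χ : IrrCharacter G) (φ : IrrCharacter (Cen (Subgroup.zpowers x₁))) =>
    classInner_char_nat (isCharacter_res (Cen (Subgroup.zpowers x₁)) (isCharacter_of_isIrr χ.2)) (isCharacter_of_isIrr φ.2)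
  let ω : IrrCharacter (Cen (Subgroup.zpowers x₁)) → ℂ := fun φ => centScal φ x
  let R : IrrCharacter G → ℕ → ℂ := fun χ n =>
    ∑ φ : IrrCharacter (Cen (Subgroup.zpowers x₁)), if φ ∈ b then ω φ ^ n * ((mult χ φ : ℤ) * uu φ : ℤ) else 0
  have hωpow : ∀ φ, ω φ ^ (2 * half k) = 1 := fun φ => by
    rw [show 2 * half k = 2 ^ (k + 3) by rw [half]; ring]
    show centScal φ x ^ _ = 1
    rw [← centScal_pow φ hxc, show x ^ 2 ^ (k + 3) = 1 from Subtype.ext (by
      rw [SubmonoidClass.coe_pow, OneMemClass.coe_one, ← d.orderOf_gen, ← hx₁, pow_orderOf_eq_one]), centScal_one]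
  have hωint : ∀ φ, IsIntegral ℤ (ω φ) := fun φ => isIntegral_centScal φ hxc
  -- contributions on the odd powers
  have hctr : ∀ n : ℕ, Odd n → ∀ (b' : Set (IrrCharacter (Cen (Subgroup.zpowers (x₁ ^ n))))),
      SubpairLE 2 M (Subgroup.zpowers (x₁ ^ n)) b' D e →
      blockDefect 2 b' = k + 3 ∧
      ∀ χ η, ctr 2 (x₁ ^ n) (Cen (Subgroup.zpowers (x₁ ^ n))) b' χ η = R χ n * conj (R η n) := by
    intro n hn b' hb'
    have hform : ∀ χ η, ctr 2 (x₁ ^ n) (Cen (Subgroup.zpowers x₁)) b χ η = R χ n * conj (R η n) := by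
      intro χ η
      have hmem : x₁ ^ n ∈ (Cen (Subgroup.zpowers x₁)) := pow_mem hxC n
      have hc : (⟨x₁ ^ n, hmem⟩ : (Cen (Subgroup.zpowers x₁))) ∈ Subgroup.center (Cen (Subgroup.zpowers x₁)) := pow_mem hxc n
      have hvec : ∀ χ, formVec (x₁ ^ n) (Cen (Subgroup.zpowers x₁)) b (fun φ => (uu φ : ℂ)) χ = R χ n := fun χ => by
        refine Finset.sum_congr rfl fun φ _ => ?_
        split_ifs
        · rw [classInner_shift_center hmem hc, hmult, show (⟨x₁ ^ n, hmem⟩ : (Cen (Subgroup.zpowers x₁))) = x ^ n from rfl,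
            centScal_pow φ hxc]
          push_cast
          ring
        · rfl
      rw [ctr_of_form hM (x₁ ^ n) hbp.2 ({()} : Finset Unit) (fun _ => 1) (fun _ => uu)
        (fun φ hφ φ' hφ' => by simp [huu φ hφ φ' hφ']) χ η, Finset.sum_singleton, Int.cast_one, one_mul, hvec, hvec]
    have key : ∀ (Q : Subgroup G), Q = Subgroup.zpowers x₁ → ∀ b'' : Set (IrrCharacter (Cen Q)),
        SubpairLE 2 M Q b'' D e → blockDefect 2 b'' = k + 3 ∧
          ∀ χ η, ctr 2 (x₁ ^ n) (Cen Q) b'' χ η = R χ n * conj (R η n) := by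
      rintro Q rfl b'' hb''
      rw [subpair_eq hM hP hb'' hb]
      exact ⟨hdef, hform⟩
    exact key _ (hx₁ ▸ d.zpowers_pow_odd hn) b' hb'
  choose bn hbn hindn _ hpown using fun n : ℕ => subsection_data hM hmax (pow_mem hx₁D n)
  have hodd : ∀ j : ℕ, Odd (2 * j + 1) := fun j => ⟨j, rfl⟩
  obtain ⟨χ₀, hχ₀, hh₀⟩ := exists_height_zero (p := 2) hM hmax.1.2.1
  -- columns
  have hR0 : ∀ n, Odd n → R χ₀ n ≠ 0 := fun n hn h => by
    have h1 := ctr_ne_zero (cen_zpowers (x₁ ^ n)) hM (hpown n) (hindn n) hχ₀ hh₀ hχ₀ hh₀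
    rw [(hctr n hn _ (hbn n)).2, h, zero_mul] at h1
    exact h1 rfl
  have hcol : ∀ n, Odd n → IsCol 2 (x₁ ^ n) (Cen (Subgroup.zpowers (x₁ ^ n))) (bn n) fun χ => R χ n := fun n hn => by
    have h1 := isCol_ctr (p := 2) (x := x₁ ^ n) (H := Cen (Subgroup.zpowers (x₁ ^ n))) (bn n)
      (fun _ => (conj (R χ₀ n))⁻¹) {χ₀}
    convert h1 using 1
    funext χ
    rw [Finset.sum_singleton, (hctr n hn _ (hbn n)).2]
    field_simp [(map_ne_zero (starRingEnd ℂ)).mpr (hR0 n hn)]
  have hnorm : ∀ n, Odd n → ∑ χ ∈ bset B, Complex.normSq (R χ n) = (2 ^ (k + 3) : ℝ) := fun n hn => by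
    apply Complex.ofReal_injective
    have h1 := ctr_sum_mul (cen_zpowers (x₁ ^ n)) hM (hpown n) (hindn n) χ₀ χ₀
    rw [(hctr n hn _ (hbn n)).1] at h1
    simp only [(hctr n hn _ (hbn n)).2] at h1
    rw [show Finset.univ.filter (· ∈ B) = bset B by ext χ; simp,
      Finset.sum_congr rfl fun χ _ => show R χ₀ n * conj (R χ n) * (R χ n * conj (R χ₀ n)) =
        R χ₀ n * conj (R χ₀ n) * ((Complex.normSq (R χ n) : ℝ) : ℂ) by rw [← Complex.mul_conj]; ring,
      ← Finset.mul_sum, mul_comm ((2 ^ (k + 3) : ℕ) : ℂ)] at h1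
    rw [Complex.ofReal_sum]
    refine (mul_left_cancel₀ (mul_ne_zero (hR0 n hn) ((map_ne_zero (starRingEnd ℂ)).mpr (hR0 n hn))) h1).trans ?_
    push_cast; rfl
  -- `w`
  let w : IrrCharacter G → ℤ := fun χ => ∑ φ : IrrCharacter (Cen (Subgroup.zpowers x₁)),
    if φ ∈ b then ((if ω φ = -1 then 1 else 0) - (if ω φ = 1 then (1 : ℤ) else 0)) * ((mult χ φ : ℤ) * uu φ) else 0
  have hhe : Even (half k) := Nat.even_pow.mpr ⟨even_two, by omega⟩
  have hsumR : ∀ χ, ∑ j ∈ Finset.range (half k), R χ (2 * j + 1) = -((half k : ℂ) * (w χ : ℂ)) := by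
    intro χ
    simp only [R, w]
    rw [Finset.sum_comm, Int.cast_sum, Finset.mul_sum, ← Finset.sum_neg_distrib]
    refine Finset.sum_congr rfl fun φ _ => ?_
    by_cases hφ : φ ∈ b
    · simp only [if_pos hφ]
      rw [← Finset.sum_mul, geom_odd (hωpow φ) hhe]
      push_cast
      ring
    · simp [hφ]
  refine ⟨w, ?_, ?_⟩
  · -- parity through the twist
    intro χ hχ h0 hw0
    set t := ι ⟨0, true⟩ with ht
    have hconjx : t * x₁ * t⁻¹ = ι ⟨Sd.c k, false⟩ := by
      rw [ht, hx₁, ← map_inv, ← map_mul, ← map_mul, Sd.conj_rot]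
      simp
    have hz' : Subgroup.zpowers (t * x₁ * t⁻¹) = Subgroup.zpowers x₁ := by
      have ho := (SemiconjBy.conj_mk t x₁).orderOf_eq.symm
      rw [hconjx, hx₁] at ho ⊢
      exact SData.zpowers_eq ho
    have hcj : cjPair t (⟨Subgroup.zpowers x₁, b⟩ : BrauerPairIdx G) = ⟨Subgroup.zpowers x₁, b⟩ := by
      have h1 := subpair_cjPair hM t (a := ⟨Subgroup.zpowers x₁, b⟩) (b := ⟨D, e⟩) hb
      rw [cjPair_self (a := ⟨D, e⟩) hP (d.mem _)] at h1
      exact pair_eq_of_le hM hP h1 hb (by rw [cjPair_fst, map_conj_zpowers, hz'])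
    have hts : t ∈ stab M (Subgroup.zpowers x₁) b := by
      refine ⟨Subgroup.mem_normalizer_iff_map_conj_eq.mpr (congrArg Sigma.fst hcj), ?_⟩
      show cjA t (pid M (⟨Subgroup.zpowers x₁, b⟩ : BrauerPairIdx G)) = pid M (⟨Subgroup.zpowers x₁, b⟩ : BrauerPairIdx G)
      rw [← pid_cjPair, hcj]
    obtain ⟨hN, hstab⟩ := ((mem_stab_iff hbp.2).mp hts).2
    have hNiff : ∀ y, y ∈ (Cen (Subgroup.zpowers x₁)) ↔ t⁻¹ * y * t ∈ (Cen (Subgroup.zpowers x₁)) := fun y => by
      refine (Subgroup.mem_normalizer_iff.mp (inv_mem hN) y).trans ?_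
      rw [inv_inv]
    let σ : (Cen (Subgroup.zpowers x₁)) ≃* (Cen (Subgroup.zpowers x₁)) := conjEquiv t (Cen (Subgroup.zpowers x₁)) (Cen (Subgroup.zpowers x₁)) hNiff
    have hσcoe : ∀ c : (Cen (Subgroup.zpowers x₁)), ((σ c : (Cen (Subgroup.zpowers x₁))) : G) = t * c * t⁻¹ := fun c => rfl
    have hσb : ∀ φ ∈ b, tirr σ φ ∈ b := fun φ hφ => by
      obtain ⟨φ', hφ', hcjc⟩ := hstab φ hφ
      suffices he : φ' = tirr σ φ by rwa [← he]
      refine Subtype.ext (funext fun c => ?_)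
      obtain ⟨c, rfl⟩ := σ.surjective c
      rw [hcjc c (σ c) (hσcoe c)]
      exact (congrArg (φ : (Cen (Subgroup.zpowers x₁)) → ℂ) (σ.symm_apply_apply c)).symm
    have htt : t⁻¹ = t := by
      rw [ht, ← map_inv]; congr 1; ext <;> simp
    have hσσ : ∀ c, σ.symm c = σ c := fun c => Subtype.ext (by
      rw [hσcoe]
      show t⁻¹ * (c : G) * t = t * (c : G) * t⁻¹
      rw [htt])
    have hinv : ∀ φ : IrrCharacter (Cen (Subgroup.zpowers x₁)), tirr σ (tirr σ φ) = φ := fun φ => Subtype.ext (funext fun c => by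
      show (φ : (Cen (Subgroup.zpowers x₁)) → ℂ) (σ.symm (σ.symm c)) = _
      rw [hσσ c, σ.symm_apply_apply])
    have hmσ : ∀ φ, mult χ (tirr σ φ) = mult χ φ := fun φ => by
      have h1 := hmult χ (tirr σ φ)
      have h2 := hmult χ φ
      rw [classInner_def] at h1 h2
      have h3 : ((mult χ (tirr σ φ) : ℕ) : ℂ) = (mult χ φ : ℂ) := by
        rw [← h1, ← h2]
        congr 1
        refine (Fintype.sum_equiv σ.toEquiv _ _ fun c => ?_).symm
        show _ = (χ : G → ℂ) ((σ c : (Cen (Subgroup.zpowers x₁))) : G) * conj ((φ : (Cen (Subgroup.zpowers x₁)) → ℂ) (σ.symm (σ c)))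
        rw [σ.symm_apply_apply, hσcoe, isClassFunction_of_isIrr χ.2]
      exact_mod_cast h3
    have huσ : ∀ φ ∈ b, (uu (tirr σ φ) : ZMod 2) = (uu φ : ZMod 2) := fun φ hφ => by
      have h1 : blockMat 2 b (tirr σ φ) (tirr σ φ) = blockMat 2 b φ φ := by
        apply Int.cast_injective (α := ℂ)
        rw [blockMat_eq_regSum hM hbp.2 (hσb φ hφ), blockMat_eq_regSum hM hbp.2 hφ]
        congr 1
        refine (Fintype.sum_equiv σ.toEquiv _ _ fun c => ?_).symm
        simp only [MulEquiv.toEquiv_eq_coe, EquivLike.coe_coe, MulEquiv.orderOf_eq, tirr, Function.comp_apply,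
          MulEquiv.symm_apply_apply]
      rw [huu _ (hσb φ hφ) _ (hσb φ hφ), huu φ hφ φ hφ] at h1
      rcases mul_self_eq_mul_self_iff.mp h1 with e | e <;> rw [e]
      rw [Int.cast_neg]; exact ZMod.neg_eq_self_mod_two _
    have hωσ : ∀ φ, ω (tirr σ φ) = ω φ ^ (Sd.c k).val := fun φ => by
      show centScal (tirr σ φ) x = centScal φ x ^ (Sd.c k).val
      rw [← centScal_pow φ hxc]
      show (φ : (Cen (Subgroup.zpowers x₁)) → ℂ) (σ.symm x) / (φ : (Cen (Subgroup.zpowers x₁)) → ℂ) (σ.symm 1) = _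
      rw [map_one, hσσ, show σ x = x ^ (Sd.c k).val from Subtype.ext (by
        rw [hσcoe, SubmonoidClass.coe_pow]
        show t * x₁ * t⁻¹ = x₁ ^ (Sd.c k).val
        rw [hconjx, hx₁, d.rot_pow, ZMod.natCast_rightInverse])]
      rfl
    have hfix : ∀ φ, ω φ ^ (Sd.c k).val = ω φ → ω φ = 1 ∨ ω φ = -1 := fun φ h => by
      set o := orderOf (ω φ) with ho
      have hdvd : o ∣ 2 ^ (k + 3) := by
        refine orderOf_dvd_of_pow_eq_one ?_
        rw [show 2 ^ (k + 3) = 2 * half k by rw [half]; ring]; exact hωpow φ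
      obtain ⟨i, hi, hoi⟩ := (Nat.dvd_prime_pow Nat.prime_two).mp hdvd
      have h2 : (ω φ) ^ 2 = 1 := by
        have hω0 : ω φ ≠ 0 := fun e => by simpa [e, half] using hωpow φ
        have hval : (Sd.c k).val + 1 = half k := by
          have h1 : 1 ≤ half k := Nat.one_le_two_pow
          rw [Sd.c_val]; omega
        have h5 : ω φ ^ half k = ω φ ^ 2 := by rw [← hval, pow_succ, h, pow_two]
        have h6 : o ∣ half k - 2 := by
          refine orderOf_dvd_of_pow_eq_one (mul_right_cancel₀ (pow_ne_zero 2 hω0) ?_)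
          rw [← pow_add, one_mul, Nat.sub_add_cancel (show 2 ≤ half k by simp [half, pow_succ]; have := Nat.one_le_two_pow (n := k); omega), h5]
        have hi2 : i ≤ 1 := by
          by_contra hlt
          have h7 : (4 : ℕ) ∣ half k - 2 := ((hoi ▸ pow_dvd_pow 2 (show 2 ≤ i by omega)) : 4 ∣ o).trans h6
          have h8 : (4 : ℕ) ∣ half k := ⟨2 ^ k, by rw [half, pow_add]; ring⟩
          obtain ⟨a, ha⟩ := h7
          obtain ⟨a', ha'⟩ := h8
          have : 1 ≤ 2 ^ k := Nat.one_le_two_pow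
          omega
        exact orderOf_dvd_iff_pow_eq_one.mp (show o ∣ 2 from hoi ▸ (pow_dvd_pow 2 hi2).trans (by norm_num))
      exact sq_eq_one_iff.mp h2
    -- reduction modulo `M`
    let ωL : IrrCharacter (Cen (Subgroup.zpowers x₁)) → locRing M := fun φ => ⟨ω φ, algInt_le_locRing M (hωint φ)⟩
    have hω1 : ∀ φ, res M (ωL φ) = 1 := fun φ => res_centScal_eq_one hM φ hxc (k := k + 3) (Subtype.ext (by
      rw [SubmonoidClass.coe_pow, OneMemClass.coe_one, ← d.orderOf_gen, ← hx₁, pow_orderOf_eq_one]))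
    let T : ℤ := ∑ φ : IrrCharacter (Cen (Subgroup.zpowers x₁)), if φ ∈ b then (mult χ φ : ℤ) * uu φ else 0
    have hTeven : (T : ZMod 2) = 0 := by
      have hw2 : ((w χ : ℤ) : ZMod 2) = 0 := by rw [hw0, Int.cast_zero]
      have hdiff : ((T : ℤ) : ZMod 2) + ((w χ : ℤ) : ZMod 2) = 0 := by
        simp only [T, w, Int.cast_sum]
        rw [← Finset.sum_add_distrib]
        refine Finset.sum_involution (fun φ _ => tirr σ φ) (fun φ _ => ?_) (fun φ _ hne he => hne ?_)
          (fun φ _ => Finset.mem_univ _) fun φ _ => hinv φ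
        · by_cases hφ : φ ∈ b
          · have h1 : ω φ = 1 ↔ ω (tirr σ φ) = 1 := by
              refine ⟨fun h => by rw [hωσ, h, one_pow], fun h => ?_⟩
              have := hωσ (tirr σ φ); rw [hinv, h, one_pow] at this; exact this
            have hcodd : Odd (Sd.c k).val := by
              rw [Sd.c_val]
              exact Nat.Even.sub_odd Nat.one_le_two_pow hhe odd_one
            have h2 : ω φ = -1 ↔ ω (tirr σ φ) = -1 := by
              refine ⟨fun h => by rw [hωσ, h, hcodd.neg_one_pow], fun h => ?_⟩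
              have := hωσ (tirr σ φ); rw [hinv, h, hcodd.neg_one_pow] at this; exact this
            rw [if_pos hφ, if_pos hφ, if_pos (hσb φ hφ), if_pos (hσb φ hφ)]
            simp only [← h1, ← h2, hmσ, Int.cast_mul, huσ φ hφ]
            exact CharTwo.add_self_eq_zero _
          · have hφ' : tirr σ φ ∉ b := fun h => hφ (hinv φ ▸ hσb _ h)
            simp [hφ, hφ']
        · by_cases hφ : φ ∈ b
          · rcases hfix φ (by rw [← hωσ, he]) with e1 | e1
            · rw [if_pos hφ, if_pos hφ, e1, if_neg (show (1 : ℂ) ≠ -1 by norm_num), if_pos rfl]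
              push_cast; ring
            · rw [if_pos hφ, if_pos hφ, e1, if_neg (show (-1 : ℂ) ≠ 1 by norm_num), if_pos rfl]
              push_cast
              rw [one_mul]
              exact CharTwo.add_self_eq_zero _
          · simp [hφ]
      rwa [hw2, add_zero] at hdiff
    obtain ⟨c, hc⟩ := (ZMod.intCast_zmod_eq_zero_iff_dvd T 2).mp hTeven
    -- the contribution is a unit
    have hR1 : R χ 1 ∈ locRing M := by
      refine Subring.sum_mem _ fun φ _ => ?_
      split_ifs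
      · exact Subring.mul_mem _ (Subring.pow_mem _ (ωL φ).2 1) (intCast_mem _ _)
      · exact Subring.zero_mem _
    have hresR : res M ⟨R χ 1, hR1⟩ = 0 := by
      have he : (⟨R χ 1, hR1⟩ : locRing M) =
          ∑ φ : IrrCharacter (Cen (Subgroup.zpowers x₁)), if φ ∈ b then ωL φ ^ 1 * (((mult χ φ : ℤ) * uu φ : ℤ) : locRing M) else 0 := by
        apply Subtype.ext
        rw [AddSubmonoidClass.coe_finsetSum]
        refine Finset.sum_congr rfl fun φ _ => ?_
        split_ifs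
        · simp only [Subring.coe_mul, pow_one, SubringClass.coe_intCast]; rfl
        · rfl
      rw [he, map_sum, Finset.sum_congr rfl (g := fun φ => if φ ∈ b then (((mult χ φ : ℤ) * uu φ : ℤ) : Res M) else 0)
        fun φ _ => by
          split_ifs
          · rw [map_mul, pow_one, hω1, one_mul, map_intCast]
          · rw [map_zero]]
      rw [show (∑ φ : IrrCharacter (Cen (Subgroup.zpowers x₁)), if φ ∈ b then (((mult χ φ : ℤ) * uu φ : ℤ) : Res M) else 0) = ((T : ℤ) : Res M) by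
        simp only [T, Int.cast_sum]; exact Finset.sum_congr rfl fun φ _ => by split_ifs <;> simp]
      rw [hc, Int.cast_mul, Int.cast_natCast, show ((2 : ℕ) : Res M) = 0 from
        (map_natCast (res M) 2).symm.trans ((res_natCast_eq_zero_iff M hM 2).mpr dvd_rfl), zero_mul]
    have hform := (hctr 1 (hodd 0) _ (hbn 1)).2 χ χ
    have hcen := cen_zpowers (x₁ ^ 1)
    have hres2 : ∀ (H : Subgroup G) (b' : Set (IrrCharacter H)), H = Subgroup.centralizer ({x₁ ^ 1} : Set G) →
        IsInducedBlock M H b' B → ctr 2 (x₁ ^ 1) H b' χ χ = R χ 1 * conj (R χ 1) → False := by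
      rintro H b' rfl hind' hf
      have := Fintype.ofFinite (Subgroup.centralizer ({x₁ ^ 1} : Set G))
      obtain ⟨v, hv, L, hL, hres⟩ := exists_heightVec hM (hpown 1) hind'
      have h1 := hres χ χ
      have hRc : conj (R χ 1) ∈ locRing M := by
        rw [map_sum]
        refine Subring.sum_mem _ fun φ _ => ?_
        split_ifs
        · rw [map_mul, map_intCast, map_pow]
          exact Subring.mul_mem _ (Subring.pow_mem _ (algInt_le_locRing M
            (map_isIntegral_int (starRingEnd ℂ) (hωint φ))) 1) (intCast_mem _ _)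
        · rw [map_zero]; exact Subring.zero_mem _
      rw [show (⟨contrib 2 (x₁ ^ 1) b' χ χ, algInt_le_locRing M (isIntegral_contrib hM hind'.1 χ χ)⟩ : locRing M) =
        ⟨R χ 1, hR1⟩ * ⟨conj (R χ 1), hRc⟩ from Subtype.ext (by
          show contrib 2 (x₁ ^ 1) b' χ χ = _
          rw [← ctr_eq_contrib, hf]; rfl), map_mul, hresR, zero_mul, zero_mul] at h1
      exact mul_ne_zero (hv χ hχ h0) (mul_ne_zero (hv χ hχ h0) hL) h1.symm
    exact hres2 _ _ hcen (hindn 1) hform
  · -- the norm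
    have hcast : ∀ j ∈ Finset.range (half k), ((2 * j + 1 : ℕ) : ZMod (2 ^ (k + 3))).val = 2 * j + 1 := fun j hj =>
      ZMod.val_natCast_of_lt (by
        have := Finset.mem_range.mp hj
        rw [show 2 ^ (k + 3) = 2 * half k by rw [half]; ring]; omega)
    set I := Finset.range (half k) with hI
    let P : ℕ → ℕ → ℂ := fun j j' => ∑ χ ∈ bset B, R χ (2 * j + 1) * conj (R χ (2 * j' + 1))
    have hbound : ∀ j j', ‖P j j'‖ ≤ (2 ^ (k + 3) : ℝ) := fun j j' => by
      refine (norm_sum_le _ _).trans ?_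
      calc ∑ χ ∈ bset B, ‖R χ (2 * j + 1) * conj (R χ (2 * j' + 1))‖
          ≤ ∑ χ ∈ bset B, (Complex.normSq (R χ (2 * j + 1)) + Complex.normSq (R χ (2 * j' + 1))) / 2 := by
            refine Finset.sum_le_sum fun χ _ => ?_
            rw [norm_mul, Complex.norm_conj, Complex.normSq_eq_norm_sq, Complex.normSq_eq_norm_sq]
            nlinarith [sq_nonneg (‖R χ (2 * j + 1)‖ - ‖R χ (2 * j' + 1)‖)]
        _ = _ := by
            rw [← Finset.sum_div, Finset.sum_add_distrib, hnorm _ (hodd j), hnorm _ (hodd j')]; ring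
    have hzero : ∀ j ∈ I, ∀ j' ∈ I, ((2 * j' + 1 : ℕ) : ZMod (2 ^ (k + 3))) ≠ ((2 * j + 1 : ℕ) : ZMod (2 ^ (k + 3))) →
        ((2 * j' + 1 : ℕ) : ZMod (2 ^ (k + 3))) ≠ Sd.c k * ((2 * j + 1 : ℕ) : ZMod (2 ^ (k + 3))) → P j j' = 0 := by
      intro j _ j' _ hne hne'
      refine IsCol.cross hM (hpown _) (hpown _) (hindn _) (hindn _) (fun g hg hgb => ?_) (hcol _ (hodd j)) (hcol _ (hodd j'))
      have key : ∀ (a a' : G), a = x₁ ^ (2 * j + 1) → a' = x₁ ^ (2 * j' + 1) →
          ∀ (ba : Set (IrrCharacter (Cen (Subgroup.zpowers a)))) (ba' : Set (IrrCharacter (Cen (Subgroup.zpowers a')))),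
          SubpairLE 2 M (Subgroup.zpowers a) ba D e → SubpairLE 2 M (Subgroup.zpowers a') ba' D e → g * a' * g⁻¹ = a →
          cjPair g (⟨Subgroup.zpowers a', ba'⟩ : BrauerPairIdx G) = ⟨Subgroup.zpowers a, ba⟩ := by
        rintro _ _ rfl rfl ba ba' h h' -
        rw [subpair_eq hM hP h (hbn _), subpair_eq hM hP h' (hbn _), hgb]
      obtain ⟨ba, hba, -⟩ := subsection_data hM hmax (d.mem ⟨((2 * j + 1 : ℕ) : ZMod (2 ^ (k + 3))), false⟩)
      obtain ⟨ba', hba', -⟩ := subsection_data hM hmax (d.mem ⟨((2 * j' + 1 : ℕ) : ZMod (2 ^ (k + 3))), false⟩)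
      have hg' : g * ι ⟨((2 * j' + 1 : ℕ) : ZMod (2 ^ (k + 3))), false⟩ * g⁻¹ =
          ι ⟨((2 * j + 1 : ℕ) : ZMod (2 ^ (k + 3))), false⟩ := by rw [← d.rot_pow, ← d.rot_pow, ← hx₁]; exact hg
      exact (rot_fusion_sd hM hmax d hba hba' hg'
        (key _ _ (hx₁ ▸ (d.rot_pow _).symm) (hx₁ ▸ (d.rot_pow _).symm) ba ba' hba hba' hg')).elim hne hne'
    have hrow : ∀ j ∈ I, ‖∑ j' ∈ I, P j j'‖ ≤ 2 * (2 ^ (k + 3) : ℝ) := fun j hj => by
      set J := I.filter fun j' => ((2 * j' + 1 : ℕ) : ZMod (2 ^ (k + 3))) = ((2 * j + 1 : ℕ) : ZMod (2 ^ (k + 3))) ∨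
        ((2 * j' + 1 : ℕ) : ZMod (2 ^ (k + 3))) = Sd.c k * ((2 * j + 1 : ℕ) : ZMod (2 ^ (k + 3))) with hJ
      have hJc : J.card ≤ 2 := by
        have hmap : J.image (fun j' => ((2 * j' + 1 : ℕ) : ZMod (2 ^ (k + 3)))) ⊆
            {((2 * j + 1 : ℕ) : ZMod (2 ^ (k + 3))), Sd.c k * ((2 * j + 1 : ℕ) : ZMod (2 ^ (k + 3)))} := by
          intro a ha
          obtain ⟨j', hj', rfl⟩ := Finset.mem_image.mp ha
          simpa using (Finset.mem_filter.mp hj').2
        rw [← Finset.card_image_of_injOn (f := fun j' => ((2 * j' + 1 : ℕ) : ZMod (2 ^ (k + 3)))) fun a ha a' ha' h => by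
          have h1 := congrArg ZMod.val h
          simp only at h1
          rw [hcast a (Finset.mem_filter.mp ha).1, hcast a' (Finset.mem_filter.mp ha').1] at h1
          omega]
        exact (Finset.card_le_card hmap).trans Finset.card_le_two
      rw [← Finset.sum_subset (Finset.filter_subset _ I : J ⊆ I) fun j' hj' hn => by
        simp only [hJ, Finset.mem_filter, not_and, not_or] at hn
        exact hzero j hj j' hj' (hn hj').1 (hn hj').2]
      refine (norm_sum_le _ _).trans ((Finset.sum_le_card_nsmul _ _ _ fun j' _ => hbound j j').trans ?_)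
      rw [nsmul_eq_mul]
      exact mul_le_mul_of_nonneg_right (by exact_mod_cast hJc) (by positivity)
    have htot : ∑ j ∈ I, ∑ j' ∈ I, P j j' = (half k : ℂ) ^ 2 * ((∑ χ ∈ bset B, w χ * w χ : ℤ) : ℂ) := by
      rw [Finset.sum_congr rfl fun j _ => Finset.sum_comm, Finset.sum_comm, Int.cast_sum, Finset.mul_sum]
      refine Finset.sum_congr rfl fun χ _ => ?_
      rw [← Finset.sum_mul_sum, hsumR, ← map_sum, hsumR, map_neg, map_mul, map_natCast, map_intCast]
      push_cast; ring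
    have hle : ‖(half k : ℂ) ^ 2 * ((∑ χ ∈ bset B, w χ * w χ : ℤ) : ℂ)‖ ≤ (half k : ℝ) * (2 * (2 ^ (k + 3) : ℝ)) := by
      rw [← htot]
      refine (norm_sum_le _ _).trans ((Finset.sum_le_card_nsmul _ _ _ hrow).trans ?_)
      rw [nsmul_eq_mul, Finset.card_range]
    rw [norm_mul, norm_pow, Complex.norm_natCast, Complex.norm_intCast, abs_of_nonneg
      (by exact_mod_cast Finset.sum_nonneg fun χ _ => mul_self_nonneg (w χ))] at hle
    have h2h : (2 ^ (k + 3) : ℝ) = 2 * (half k : ℝ) := by rw [half]; push_cast; ring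
    rw [h2h] at hle
    have hhpos : (0 : ℝ) < (half k : ℝ) := by rw [half]; positivity
    have : ((∑ χ ∈ bset B, w χ * w χ : ℤ) : ℝ) ≤ 4 :=
      le_of_mul_le_mul_left (hle.trans_eq (by ring)) (pow_pos hhpos 2)
    exact_mod_cast this

/-- At most four characters of height zero. -/
theorem card_height_zero_le (hM : IsPModular 2 M) (hmax : IsMaximalBrauerPair 2 M B D e) (d : SData D ι) :
    ((bset B).filter fun χ : IrrCharacter G => blockHeight 2 B (χ : G → ℂ) = 0).card ≤ 4 := by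
  obtain ⟨w, hw, hle⟩ := exists_parity_vector hM hmax d
  have h1 := Finset.card_nsmul_le_sum
    ((bset B).filter fun χ : IrrCharacter G => blockHeight 2 B (χ : G → ℂ) = 0) (fun χ => w χ * w χ) 1 fun χ hχ => by
      obtain ⟨hχB, h0⟩ := Finset.mem_filter.mp hχ
      have := mul_self_pos.mpr (hw χ (mem_bset.mp hχB) h0)
      omega
  rw [nsmul_eq_mul, mul_one] at h1
  have h2 := h1.trans ((Finset.sum_le_sum_of_subset_of_nonneg (Finset.filter_subset _ _)
    fun χ _ _ => mul_self_nonneg (w χ)).trans hle)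
  exact_mod_cast h2

end CfsgLib.SDDefect
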