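import Cfsg.Agent.Lib.BlockArith.SDDefect.Sections
import Cfsg.Agent.Lib.BlockArith.SDDefect.IntForm
import Cfsg.Agent.Lib.BlockArith.DihDefect.Transport

/-!
# Reflections of order four and the quarter rotation

* `ZRows.parity_facts`: the parity of `f`;
* `no_fusion_local`: with `z` central and one modular character they are not fused;
* `refl_rot_unfused`: the same in the whole group when the block at `z` has one modular character.
-/

set_option autoImplicit false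

noncomputable section

open scoped ComplexConjugate Classical

namespace CfsgLib.SDDefect

open Cfsg CfsgLib.Blocks CfsgLib.BlockArith CfsgLib.Char CfsgLib.BrauerPairs CfsgLib.NilBlock
open CfsgLib.Invol.QDW

universe u

variable {G : Type u} [Group G] {D : Subgroup G} {k : ℕ} {ι : Sd k →* G} [Fintype G]
  {M : Ideal AlgInt} [M.IsMaximal] {B : Set (IrrCharacter G)} {e : Set (IrrCharacter (Cen D))}

omit [M.IsMaximal] in
/-- One modular character: the values on regular elements are proportional. -/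
theorem char_proportional {p : ℕ} (hl : blockRank p B = 1) :
    ∃ (φ : G → ℂ) (a : IrrCharacter G → ℂ), ∀ χ ∈ B, ∀ y : G, ¬ p ∣ orderOf y → (χ : G → ℂ) y = a χ * φ y := by
  rw [blockRank] at hl
  obtain ⟨⟨φ, hφ⟩, -, hgen⟩ := finrank_eq_one_iff'.mp hl
  have hA : ∀ θ ∈ B, ∃ t : ℂ, ∀ y : G, ¬ p ∣ orderOf y → (θ : G → ℂ) y = t * φ y := fun θ hθ => by
    obtain ⟨t, ht⟩ := hgen ⟨_, Submodule.subset_span ⟨θ, hθ, rfl⟩⟩
    refine ⟨t, fun y hy => ?_⟩
    have := congrFun (congrArg Subtype.val ht) y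
    simp only [SetLike.val_smul, Pi.smul_apply, smul_eq_mul, pRegularPart_apply, if_neg hy] at this
    exact this.symm
  choose! t ht using hA
  exact ⟨φ, t, ht⟩

/-- A vector killed by fewer functionals than coordinates. -/
theorem exists_orth {α J : Type*} [Fintype α] [Fintype J] (S : Finset α) (A : J → α → ℂ)
    (h : Fintype.card J < S.card) :
    ∃ c : α → ℂ, (∀ x, x ∉ S → c x = 0) ∧ (∃ x, c x ≠ 0) ∧ ∀ j, ∑ x, c x * A j x = 0 := by
  let L : (S → ℂ) →ₗ[ℂ] (J → ℂ) := (Matrix.of fun (j : J) (x : S) => A j x.1).mulVecLin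
  have hk : LinearMap.ker L ≠ ⊥ := LinearMap.ker_ne_bot_of_finrank_lt
    (by rw [Module.finrank_fintype_fun_eq_card, Module.finrank_fintype_fun_eq_card, Fintype.card_coe]; exact h)
  obtain ⟨v, hv, hv0⟩ := Submodule.exists_mem_ne_zero_of_ne_bot hk
  obtain ⟨⟨x, hx⟩, hxv⟩ := Function.ne_iff.mp hv0
  refine ⟨fun y => if hy : y ∈ S then v ⟨y, hy⟩ else 0, fun y hy => dif_neg hy,
    ⟨x, by simp only [dif_pos hx]; exact hxv⟩, fun j => ?_⟩
  rw [← Finset.sum_subset (Finset.subset_univ S) fun y _ hy => by simp only [dif_neg hy, zero_mul],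
    ← Finset.sum_coe_sort S]
  have := congrFun (LinearMap.mem_ker.mp hv) j
  simp only [L, Matrix.mulVecLin_apply, Matrix.mulVec, dotProduct, Matrix.of_apply, Pi.zero_apply] at this
  refine Eq.trans (Finset.sum_congr rfl fun y _ => ?_) this
  simp only [dif_pos y.2]; exact mul_comm _ _

variable [hp : Fact (Nat.Prime 2)]

/-- The parity of `f`. -/
theorem ZRows.parity_facts {b : Set (IrrCharacter (Cen (Subgroup.zpowers (zsd ι))))}
    {f g : IrrCharacter G → ℤ} {c : ℕ} (Z : ZRows B ι b f g c)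
    (hM : IsPModular 2 M) (hmax : IsMaximalBrauerPair 2 M B D e) (d : SData D ι) :
    (∀ ψ ∈ B, (Odd (f ψ) ↔ blockHeight 2 B (ψ : G → ℂ) = 0)) ∧
      ((bset B).filter fun χ => Odd (f χ)).card = 4 ∧
      ∀ ψ ∈ B, f ψ = 0 → g ψ ≠ 0 ∧ ∀ χ ∈ B, Odd (f χ) → g χ ≠ 0 := by
  obtain ⟨χ₀, hχ₀, h₀⟩ := exists_height_zero (p := 2) hM hmax.1.2.1
  obtain ⟨c', hc'⟩ := Z.even
  have hodd : ∀ x y : IrrCharacter G, Odd (f x * f y + (c : ℤ) * (g x * g y)) ↔ Odd (f x) ∧ Odd (f y) :=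
    fun x y => by
      have h : Even ((c : ℤ) * (g x * g y)) := ⟨(c' : ℤ) * (g x * g y), by rw [hc']; push_cast; ring⟩
      rw [Int.odd_add, Int.odd_mul]
      exact iff_of_eq (by simp [h])
  have hf₀ : Odd (f χ₀) := by
    have h1 := (Z.exact χ₀ hχ₀ h₀ χ₀ hχ₀).2
    rw [h₀, zero_add, pow_one] at h1
    exact ((hodd χ₀ χ₀).mp (Int.not_even_iff_odd.mp fun h => h1 (even_iff_two_dvd.mp h))).1
  have hiff : ∀ ψ ∈ B, (Odd (f ψ) ↔ blockHeight 2 B (ψ : G → ℂ) = 0) := fun ψ hψ => by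
    obtain ⟨h1, h2⟩ := Z.exact χ₀ hχ₀ h₀ ψ hψ
    constructor
    · intro ho
      by_contra hne
      exact Int.not_even_iff_odd.mpr ((hodd χ₀ ψ).mpr ⟨hf₀, ho⟩)
        (even_iff_two_dvd.mpr ((dvd_pow_self 2 hne).trans h1))
    · intro h0
      rw [h0, zero_add, pow_one] at h2
      exact ((hodd χ₀ ψ).mp (Int.not_even_iff_odd.mp fun h => h2 (even_iff_two_dvd.mp h))).2
  refine ⟨hiff, ?_, fun ψ hψ h0 => ?_⟩
  · set O := (bset B).filter fun χ => Odd (f χ) with hO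
    have hle : O.card ≤ 4 := by
      refine le_of_eq_of_le ?_ (card_height_zero_le hM hmax d)
      rw [hO]
      exact congrArg Finset.card (Finset.filter_congr fun χ hχ => hiff χ (mem_bset.mp hχ))
    have hge : 1 ≤ O.card := Finset.card_pos.mpr ⟨χ₀, Finset.mem_filter.mpr ⟨mem_bset.mpr hχ₀, hf₀⟩⟩
    have hmod : ((O.card : ℤ) : ZMod 4) = 0 := by
      have h1 := congrArg (Int.cast (R := ZMod 4)) Z.norm_f
      rw [Int.cast_mul, show ((4 : ℤ) : ZMod 4) = 0 from rfl, zero_mul, Int.cast_sum,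
        ← Finset.sum_filter_add_sum_filter_not (bset B) (fun χ => Odd (f χ))] at h1
      have hA : ∑ χ ∈ (bset B).filter (fun χ => Odd (f χ)), ((f χ * f χ : ℤ) : ZMod 4) = (O.card : ZMod 4) := by
        rw [Finset.sum_congr rfl (g := fun _ => (1 : ZMod 4)) fun χ hχ => by
          obtain ⟨r, hr⟩ := (Finset.mem_filter.mp hχ).2
          rw [hr, show (2 * r + 1) * (2 * r + 1) = 4 * (r * (r + 1)) + 1 by ring, Int.cast_add, Int.cast_mul,
            show ((4 : ℤ) : ZMod 4) = 0 from rfl, zero_mul, zero_add, Int.cast_one], Finset.sum_const, nsmul_eq_mul,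
          mul_one]
      have hE : ∑ χ ∈ (bset B).filter (fun χ => ¬ Odd (f χ)), ((f χ * f χ : ℤ) : ZMod 4) = 0 :=
        Finset.sum_eq_zero fun χ hχ => by
          obtain ⟨r, hr⟩ := Int.not_odd_iff_even.mp (Finset.mem_filter.mp hχ).2
          rw [hr, show (r + r) * (r + r) = 4 * (r * r) by ring, Int.cast_mul,
            show ((4 : ℤ) : ZMod 4) = 0 from rfl, zero_mul]
      rw [hA, hE, add_zero] at h1
      simpa using h1
    rw [Int.cast_natCast, ZMod.natCast_eq_zero_iff] at hmod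
    obtain ⟨a, ha⟩ := hmod
    omega
  · have hne : ∀ χ ∈ B, Odd (f χ) → (g χ * g ψ) ≠ 0 := fun χ hχ ho he => by
      have h1 := (Z.exact χ hχ ((hiff χ hχ).mp ho) ψ hψ).2
      rw [h0, mul_zero, he, mul_zero, add_zero] at h1
      exact h1 (dvd_zero _)
    exact ⟨fun he => hne χ₀ hχ₀ hf₀ (by rw [he, mul_zero]),
      fun χ hχ ho he => hne χ hχ ho (by rw [he, zero_mul])⟩

theorem nonzero_col_f {b : Set (IrrCharacter (Cen (Subgroup.zpowers (zsd ι))))}
    {f g : IrrCharacter G → ℤ} {c : ℕ} (Z : ZRows B ι b f g c) : ∃ χ ∈ B, (f χ : ℂ) ≠ 0 := by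
  by_contra hh
  push Not at hh
  have h1 := Z.norm_f
  rw [Finset.sum_eq_zero fun χ hχ => by
    rw [show f χ = 0 from Int.cast_eq_zero.mp (hh χ (mem_bset.mp hχ)), mul_zero]] at h1
  have : 0 < half k := Nat.two_pow_pos _
  omega

set_option maxHeartbeats 1000000 in
/-- **No fusion for a central involution.** -/
theorem no_fusion_local (hM : IsPModular 2 M) (hmax : IsMaximalBrauerPair 2 M B D e) (d : SData D ι)
    (hz : zsd ι ∈ Subgroup.center G) (hl : blockRank 2 B = 1)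
    {bx : Set (IrrCharacter (Cen (Subgroup.zpowers (ι ⟨1, true⟩))))}
    (hbx : SubpairLE 2 M (Subgroup.zpowers (ι ⟨1, true⟩)) bx D e)
    {bq : Set (IrrCharacter (Cen (Subgroup.zpowers (ι ⟨qtr k, false⟩))))}
    (hbq : SubpairLE 2 M (Subgroup.zpowers (ι ⟨qtr k, false⟩)) bq D e) {g : G}
    (hg : g * ι ⟨1, true⟩ * g⁻¹ = ι ⟨qtr k, false⟩)
    (hgb : cjPair g (⟨Subgroup.zpowers (ι ⟨1, true⟩), bx⟩ : BrauerPairIdx G) =
      ⟨Subgroup.zpowers (ι ⟨qtr k, false⟩), bq⟩) : False := by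
  have hP := hmax.1.1
  have hzD : zsd ι ∈ D := d.mem _
  obtain ⟨bz, hbz, hindz, hbpz, -⟩ := subsection_data hM hmax hzD
  have hCz : Cen (Subgroup.zpowers (zsd ι)) = ⊤ :=
    Subgroup.centralizer_eq_top_iff_subset.mpr (Subgroup.zpowers_le.mpr hz)
  have hlz : blockRank 2 bz = 1 := by
    rw [pairRank_top hCz ((brauerPairOf_iff_of_subpair hM (a := ⟨_, bz⟩) (b := ⟨D, e⟩) hbz).mp hmax.1), hl]
  obtain ⟨f, g', c', Z⟩ := exists_zrows hM hmax d hbz
  obtain ⟨-, h4, hfg⟩ := Z.parity_facts hM hmax d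
  have hf0 : ∀ χ ∈ bset B, f χ ≠ 0 := fun χ hχ he => (hfg χ (mem_bset.mp hχ) he).1 (Z.one hlz χ)
  -- the lower bound
  obtain ⟨ct, hct, hnet⟩ := exists_col hM hmax (d.mem (⟨0, true⟩ : Sd k))
  have hzt : ∀ w : G, w * zsd ι * w⁻¹ = zsd ι := fun w => by
    rw [Subgroup.mem_center_iff.mp hz w, mul_inv_cancel_right]
  have hz_ne : ∀ x : Sd k, x ≠ ⟨half k, false⟩ → ∀ w : G, w * ι x * w⁻¹ ≠ zsd ι := fun x hx w he => hx (d.inj (by
    have h1 := congrArg (fun y => w⁻¹ * y * w) (he.trans (hzt w).symm)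
    simpa [mul_assoc, zsd] using h1))
  have hut : Unfused 2 M D e (zsd ι) (ι ⟨0, true⟩) :=
    unfused_of_not_conj (hz_ne _ fun h => Bool.noConfusion (congrArg Sd.e h))
  have hlow := rank_bound hM hmax d ![zsd ι, ι ⟨0, true⟩]
    (fun i => by fin_cases i <;> [exact ⟨hzD, d.zsd_ne_one⟩; exact ⟨d.mem _, d.refl_ne_one _⟩])
    ![fun χ => (f χ : ℂ), ct]
    (fun i b hb => by
      fin_cases i
      · simp only [Fin.zero_eta, Matrix.cons_val_zero] at hb ⊢
        rw [subpair_eq hM hP hb hbz]; exact Z.col_f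
      · simp only [Fin.mk_one, Matrix.cons_val_one, Matrix.cons_val_zero] at hb ⊢
        exact hct b hb)
    (fun i => by fin_cases i <;> [exact nonzero_col_f Z; exact hnet])
    (fun i j hj hj' => by
      fin_cases i
      · exact unfused_of_not_conj (hz_ne _ fun h => hj' (congrArg Sd.i h))
      · refine unfused_of_not_conj fun w he => d.rot_sq_ne hj hj' ?_
        have h1 := conj_sq he
        simp only [Fin.mk_one, Matrix.cons_val_one, Matrix.cons_val_zero] at h1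
        rwa [d.refl0_sq, conj_eq_one_iff] at h1)
    (fun i i' hii => by
      fin_cases i <;> fin_cases i'
      · exact absurd rfl hii
      · exact Or.inl hut
      · exact Or.inl (hut.symm hM hmax)
      · exact absurd rfl hii)
  rw [hl] at hlow
  have hh : 1 ≤ half k := Nat.one_le_two_pow
  have hcard : (bset B).card = half k + 3 := by
    rcases count_one (bset B) f Z.norm_f h4 hf0 (by omega) with ⟨h1, -⟩ | ⟨h1, -⟩
    · exact h1
    · omega
  -- the columns are not complete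
  obtain ⟨T, hT, hT0, -, hTcov⟩ := exists_transversal k
  choose bT hbT _ _ _ using fun i : T => subsection_data hM hmax (d.mem (⟨i.1, false⟩ : Sd k))
  obtain ⟨b0, hb0, -⟩ := subsection_data hM hmax (d.mem (⟨0, true⟩ : Sd k))
  obtain ⟨φ, a, ha⟩ := char_proportional (G := G) hl
  obtain ⟨φz, az, haz⟩ := secH_proportional (G := G) (x := zsd ι) hlz
  choose φT aT haT using fun i : T => secH_proportional (G := G) (x := ι ⟨i.1, false⟩)
    (rot_block hM hmax d (hT0 _ i.2).1 (hT0 _ i.2).2 (hbT i))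
  obtain ⟨φ0, a0, ha0⟩ := secH_proportional (G := G) (x := ι ⟨0, true⟩) (refl_block hM hmax d hz hb0)
  obtain ⟨v, hvout, ⟨χ₁, hv1⟩, hv⟩ := exists_orth (bset B) (Sum.elim aT ![a, az, a0]) (by
    simp only [Fintype.card_sum, Fintype.card_coe, hT, Fintype.card_fin]; omega)
  refine hv1 (eq_zero_of_orth_sections hM hmax v (fun χ hχ => hvout χ fun h => hχ (mem_bset.mp h))
    (fun y hy => ?_) ?_ χ₁)
  · calc ∑ χ, v χ * (χ : G → ℂ) y = ∑ χ, v χ * a χ * φ y := Finset.sum_congr rfl fun χ _ => by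
          by_cases hχ : χ ∈ B
          · rw [ha χ hχ y hy, mul_assoc]
          · simp [hvout χ fun h => hχ (mem_bset.mp h)]
      _ = 0 := by rw [← Finset.sum_mul, show ∑ χ, v χ * a χ = 0 from hv (Sum.inr 0), zero_mul]
  let P : G → Prop := fun y => ∀ b, SubpairLE 2 M (Subgroup.zpowers y) b D e →
    ∀ s : Cen (Subgroup.zpowers y), ¬ 2 ∣ orderOf s →
      ∑ χ, v χ * secH y (Cen (Subgroup.zpowers y)) b χ s = 0
  have base : ∀ (y : G) (b : Set (IrrCharacter (Cen (Subgroup.zpowers y))))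
      (A : IrrCharacter G → ℂ) (φ' : Cen (Subgroup.zpowers y) → ℂ),
      SubpairLE 2 M (Subgroup.zpowers y) b D e →
      (∀ χ s, ¬ 2 ∣ orderOf s → secH y (Cen (Subgroup.zpowers y)) b χ s = A χ * φ' s) →
      ∑ χ, v χ * A χ = 0 → P y := fun y b A φ' hb hA h0 b' hb' s hs => by
    rw [subpair_eq hM hP hb' hb]
    calc ∑ χ, v χ * secH y (Cen (Subgroup.zpowers y)) b χ s = ∑ χ, v χ * A χ * φ' s :=
          Finset.sum_congr rfl fun χ _ => by rw [hA χ s hs, mul_assoc]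
      _ = 0 := by rw [← Finset.sum_mul, h0, zero_mul]
  have closure' : ∀ (y y' w : G), w * y * w⁻¹ = y' → w ∈ D → y ∈ D → P y' → P y := by
    rintro y _ w rfl hw hy hy' b hb s hs
    obtain ⟨b', hb', -⟩ := subsection_data hM hmax (D.mul_mem (D.mul_mem hw hy) (D.inv_mem hw))
    exact sum_mul_secH_eq_zero_conj rfl (subpair_conj_mem hM hmax hw hb hb') v (hy' b' hb') hs
  have hPz : P (zsd ι) := base _ bz az φz hbz haz (hv (Sum.inr 1))
  have hP0 : P (ι ⟨0, true⟩) := base _ b0 a0 φ0 hb0 ha0 (hv (Sum.inr 2))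
  have hProt : ∀ i : ZMod (2 ^ (k + 3)), i ≠ 0 → P (ι ⟨i, false⟩) := by
    intro i hi
    rcases hTcov i with e0 | eh | hiT | hiT
    · exact absurd e0 hi
    · rw [eh]; exact hPz
    · exact base _ _ (aT ⟨i, hiT⟩) (φT ⟨i, hiT⟩) (hbT ⟨i, hiT⟩) (haT ⟨i, hiT⟩) (hv (Sum.inl ⟨i, hiT⟩))
    · refine closure' _ (ι ⟨Sd.c k * i, false⟩) (ι ⟨0, true⟩) ?_ (d.mem _) (d.mem _) ?_
      · rw [← map_inv, ← map_mul, ← map_mul, Sd.conj_rot]; rfl
      · exact base _ _ (aT ⟨_, hiT⟩) (φT ⟨_, hiT⟩) (hbT ⟨_, hiT⟩) (haT ⟨_, hiT⟩) (hv (Sum.inl ⟨_, hiT⟩))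
  have hP1 : P (ι ⟨1, true⟩) := fun b hb s hs => by
    rw [subpair_eq hM hP hb hbx]
    exact sum_mul_secH_eq_zero_conj hg hgb v (hProt _ (Sd.qtr_ne k).1 bq hbq) hs
  intro y hy hy1
  obtain ⟨⟨i, f'⟩, rfl⟩ := d.surj hy
  cases f' with
  | false => exact hProt i fun e0 => hy1 (by rw [e0, Sd.rot_zero, map_one])
  | true =>
    obtain ⟨w, hw | hw⟩ := Sd.refl_class i
    · exact closure' _ _ (ι w) (by rw [← map_inv, ← map_mul, ← map_mul, hw]) (d.mem _) (d.mem _) hP0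
    · exact closure' _ _ (ι w) (by rw [← map_inv, ← map_mul, ← map_mul, hw]) (d.mem _) (d.mem _) hP1

set_option maxHeartbeats 1000000 in
/-- **Reflections of order four are not fused to rotations when `l(b_z) = 1`.** -/
theorem refl_rot_unfused (hM : IsPModular 2 M) (hmax : IsMaximalBrauerPair 2 M B D e) (d : SData D ι)
    {bz : Set (IrrCharacter (Cen (Subgroup.zpowers (zsd ι))))}
    (hbz : SubpairLE 2 M (Subgroup.zpowers (zsd ι)) bz D e) (hlz : blockRank 2 bz = 1)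
    {j : ZMod (2 ^ (k + 3))} (hj : j ≠ 0) (hj' : j ≠ half k) :
    Unfused 2 M D e (ι ⟨j, false⟩) (ι ⟨1, true⟩) := by
  intro b b' hb hb' g hg hgb
  have hP := hmax.1.1
  have hsq := conj_sq hg
  rw [d.refl1_sq, d.rot_sq] at hsq
  have hjj : j + j = half k := by
    have h4 := conj_sq hsq
    rw [d.zsd_sq, mul_one, mul_inv_cancel, d.rot_sq] at h4
    rcases Sd.double_eq_zero (i := j + j) (by
      by_contra hne; exact d.rot_ne_one hne h4.symm) with e0 | eh
    · exact ((Sd.double_eq_zero e0).elim hj hj').elim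
    · exact eh
  rw [hjj] at hsq
  have hgz : g * zsd ι * g⁻¹ = zsd ι := hsq
  -- reduce to the quarter
  obtain ⟨g1, hg1, bq, hbq, hgb1, hgz1⟩ : ∃ g1 : G, g1 * ι ⟨1, true⟩ * g1⁻¹ = ι ⟨qtr k, false⟩ ∧
      ∃ bq, SubpairLE 2 M (Subgroup.zpowers (ι ⟨qtr k, false⟩)) bq D e ∧
        cjPair g1 (⟨Subgroup.zpowers (ι ⟨1, true⟩), b'⟩ : BrauerPairIdx G) =
          ⟨Subgroup.zpowers (ι ⟨qtr k, false⟩), bq⟩ ∧ g1 * zsd ι * g1⁻¹ = zsd ι := by
    rcases Sd.double_eq_half hjj with e0 | ec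
    · subst e0; exact ⟨g, hg, b, hb, hgb, hgz⟩
    · subst ec
      obtain ⟨bq, hbq, -⟩ := subsection_data hM hmax (d.mem (⟨qtr k, false⟩ : Sd k))
      have hw : ι ⟨0, true⟩ * ι ⟨Sd.c k * qtr k, false⟩ * (ι ⟨0, true⟩)⁻¹ = ι ⟨qtr k, false⟩ := by
        rw [← map_inv, ← map_mul, ← map_mul, Sd.conj_rot]
        simp [Sd.c_c_mul]
      refine ⟨ι ⟨0, true⟩ * g, ?_, bq, hbq, ?_, ?_⟩
      · rw [← hw, ← hg]; group
      · rw [← cjPair_cjPair _ _ (isBrauerPair_left (a := ⟨_, b'⟩) hb' hP), hgb]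
        have key : ∀ y : G, ι ⟨0, true⟩ * ι ⟨Sd.c k * qtr k, false⟩ * (ι ⟨0, true⟩)⁻¹ = y →
            ∀ b'' : Set (IrrCharacter (Cen (Subgroup.zpowers y))), SubpairLE 2 M (Subgroup.zpowers y) b'' D e →
            cjPair (ι ⟨0, true⟩) (⟨Subgroup.zpowers (ι ⟨Sd.c k * qtr k, false⟩), b⟩ : BrauerPairIdx G) =
              ⟨Subgroup.zpowers y, b''⟩ := by
          rintro _ rfl b'' hb''
          exact subpair_conj_mem hM hmax (d.mem _) hb hb''
        exact key _ hw bq hbq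
      · rw [show ι ⟨0, true⟩ * g * zsd ι * (ι ⟨0, true⟩ * g)⁻¹ = ι ⟨0, true⟩ * (g * zsd ι * g⁻¹) * (ι ⟨0, true⟩)⁻¹ by
          group, hgz, d.zsd_comm (d.mem _), mul_inv_cancel_right]
  clear hgb hg hsq hgz
  -- inside the centraliser
  set C := Cen (Subgroup.zpowers (zsd ι)) with hC
  have hg1C : g1 ∈ C := NilBlock.mem_cen_zpowers.mpr (mul_inv_eq_iff_eq_mul.mp hgz1)
  obtain ⟨e', hmax', hu⟩ := CfsgLib.DihDefect.exists_local_maximal hM hmax (d.mem _) d.le_cen hbz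
  set ιC := subIota C ι fun x => d.le_cen (d.mem x) with hιC
  have dC : SData (D.subgroupOf C) ιC := d.restrict d.le_cen
  have up : ∀ (x : Sd k), zsd ι ∈ Subgroup.zpowers (ι x) →
      ∀ bx : Set (IrrCharacter (Cen (Subgroup.zpowers (ι x)))), SubpairLE 2 M (Subgroup.zpowers (ι x)) bx D e →
      ∃ bc, SubpairLE 2 M (Subgroup.zpowers (ιC x)) bc (D.subgroupOf C) e' ∧
        Up (M := M) ⟨Subgroup.zpowers (ιC x), bc⟩ ⟨Subgroup.zpowers (ι x), bx⟩ := by
    intro x hzx bx hbx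
    obtain ⟨bc, hbc, -, hbpc, hpow⟩ := subsection_data hM hmax' (dC.mem x)
    have hmapx : (Subgroup.zpowers (ιC x)).map C.subtype = Subgroup.zpowers (ι x) := MonoidHom.map_zpowers _ _
    have hcen : (Cen (Subgroup.zpowers (ιC x))).map C.subtype = Cen (Subgroup.zpowers (ι x)) := by
      rw [map_cen_subtype, hmapx]
      rw [hmapx]; exact centralizer_anti (Subgroup.zpowers_le.mpr hzx)
    obtain ⟨bb, hbb, hub⟩ := exists_up (M := M) hp (a := ⟨Subgroup.zpowers (ιC x), bc⟩) hcen hbpc.2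
    have hsub := CfsgLib.DihDefect.subpair_up hM hmax d.le_cen hu hbc (c := ⟨Subgroup.zpowers (ιC x), bc⟩)
      (by rw [hmapx]; exact hzx) (b := ⟨Subgroup.zpowers (ι x), bb⟩) hub hmapx
      ⟨NilBlock.isPGroup_zpowers (exists_pow_of_mem hP.1 (d.mem x)), hbb⟩
    exact ⟨bc, hbc, subpair_eq hM hP hsub hbx ▸ hub⟩
  have hz1 : zsd ι ∈ Subgroup.zpowers (ι ⟨1, true⟩) := by
    rw [← d.refl1_sq]; exact mul_mem (Subgroup.mem_zpowers _) (Subgroup.mem_zpowers _)
  have hzq : zsd ι ∈ Subgroup.zpowers (ι ⟨qtr k, false⟩) := by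
    rw [show zsd ι = ι ⟨qtr k, false⟩ * ι ⟨qtr k, false⟩ by rw [d.rot_sq, Sd.qtr_double]; rfl]
    exact mul_mem (Subgroup.mem_zpowers _) (Subgroup.mem_zpowers _)
  obtain ⟨c1, hc1, hu1⟩ := up _ hz1 b' hb'
  obtain ⟨cq, hcq, huq⟩ := up _ hzq bq hbq
  have hcenC : Cen ((Subgroup.zpowers (ι ⟨1, true⟩)).map (MulAut.conj g1).toMonoidHom) ≤ C := by
    rw [map_conj_zpowers, hg1]
    exact centralizer_anti (Subgroup.zpowers_le.mpr hzq)
  obtain ⟨hucj, -⟩ := up_cjPair hu1 ⟨g1, hg1C⟩ (MonoidHom.map_zpowers _ _) hcenC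
  rw [hgb1] at hucj
  refine no_fusion_local hM hmax' dC (zsd_restrict_central d) hlz hc1 hcq (g := ⟨g1, hg1C⟩)
    (Subtype.ext hg1) ?_
  refine pair_ext (M := M) ?_ (isBrauerPair_left (a := ⟨_, cq⟩) hcq hmax'.1.1).2 ?_ (emb_injective C ?_)
  · exact (isBrauerPair_cjPair _ (isBrauerPair_left (a := ⟨_, c1⟩) hc1 hmax'.1.1)).2
  · rw [cjPair_fst, map_conj_zpowers]
    exact congrArg Subgroup.zpowers (Subtype.ext hg1)
  · exact hucj.pid_eq.symm.trans huq.pid_eq

end CfsgLib.SDDefect
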