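import Cfsg.Agent.Lib.BlockArith.SDDefect.Local

/-!
# The invariants of a block with semidihedral defect group

* `rank_ne_one_of_height`: with one modular character no height reaches `n - 2`;
* `semidihedral_invariants`: the numbers of characters, their heights and the rank.
-/

set_option autoImplicit false

noncomputable section

open scoped ComplexConjugate Classical

namespace CfsgLib.SDDefect

open Cfsg CfsgLib.Blocks CfsgLib.BlockArith CfsgLib.Char CfsgLib.BrauerPairs CfsgLib.NilBlock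
open CfsgLib.Invol.QDW

universe u

variable {G : Type u} [Group G] {D : Subgroup G} {k : ℕ} {ι : Sd k →* G} [Fintype G]
  {M : Ideal AlgInt} [M.IsMaximal] {B : Set (IrrCharacter G)} {e : Set (IrrCharacter (Cen D))}
  [hp : Fact (Nat.Prime 2)]

/-- A character of height `k + 2` excludes one modular character. -/
theorem rank_ne_one_of_height (hM : IsPModular 2 M) (hmax : IsMaximalBrauerPair 2 M B D e) (d : SData D ι)
    {r : IrrCharacter G} (hr : r ∈ B) (hhr : blockHeight 2 B (r : G → ℂ) = k + 2) :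
    blockRank 2 B ≠ 1 := by
  intro hl
  have hB := hmax.1.2.1
  obtain ⟨u, hu, hnorm⟩ := blockMat_rank_one hM hB hl
  have hdef : blockDefect 2 B = k + 4 := by
    refine Nat.pow_right_injective le_rfl ?_
    show 2 ^ blockDefect 2 B = 2 ^ (k + 4)
    rw [← card_defectGroup hM hB (isDefectGroup_of_maximal hM hmax), d.card]
  obtain ⟨χ₀, hχ₀, h₀⟩ := exists_height_zero (p := 2) hM hB
  have hne : χ₀ ≠ r := fun h => by rw [h, hhr] at h₀; omega
  have h1 : (2 : ℤ) ^ (k + 2) ∣ u χ₀ * u r := by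
    have := pow_height_dvd_blockMat (p := 2) hM hB hr χ₀
    rw [hhr, hu r hr χ₀ hχ₀, mul_comm] at this
    exact_mod_cast this
  have h2 : u χ₀ * u r ≠ 0 := fun h0 => by
    refine (not_dvd_blockMat_iff (p := 2) hM hB hr hχ₀).mpr h₀ ?_
    rw [hu r hr χ₀ hχ₀, mul_comm, h0]
    exact dvd_zero _
  have h3 : Odd (u χ₀) := by
    have h4 := (not_dvd_blockMat_iff (p := 2) hM hB hχ₀ hχ₀).mpr h₀
    rw [h₀, zero_add, pow_one, hu χ₀ hχ₀ χ₀ hχ₀] at h4
    exact (Int.odd_mul.mp (Int.not_even_iff_odd.mp fun he => h4 (by exact_mod_cast even_iff_two_dvd.mp he))).1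
  have h4 : (2 : ℤ) ^ (k + 2) ∣ u r := by
    refine IsCoprime.dvd_of_dvd_mul_left (IsCoprime.pow_left ?_) h1
    obtain ⟨a, ha⟩ := h3
    exact ⟨-a, 1, by rw [ha]; ring⟩
  obtain ⟨w, hw⟩ := h4
  have h5 : ∑ φ ∈ ({χ₀, r} : Finset (IrrCharacter G)), u φ * u φ ≤ ∑ φ ∈ bset B, u φ * u φ :=
    Finset.sum_le_sum_of_subset_of_nonneg (by simp [Finset.insert_subset_iff, hχ₀, hr])
      fun φ _ _ => mul_self_nonneg _
  rw [Finset.sum_pair hne, hnorm, hdef, hw] at h5
  have hw0 : 0 < w * w := mul_self_pos.mpr fun e0 => h2 (by rw [hw, e0, mul_zero, mul_zero])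
  have hu0 : 0 < u χ₀ * u χ₀ := mul_self_pos.mpr fun e0 => h2 (by rw [e0, zero_mul])
  have h2k : (4 : ℤ) ≤ 2 ^ (k + 2) := by
    calc (4 : ℤ) = 2 ^ 2 := by norm_num
      _ ≤ _ := pow_le_pow_right₀ (by norm_num) (by omega)
  have h6 : (2 : ℤ) ^ (k + 4) = 4 * 2 ^ (k + 2) := by ring
  rw [h6] at h5
  nlinarith [mul_le_mul_of_nonneg_left (show (1 : ℤ) ≤ w * w by omega) (mul_self_nonneg ((2 : ℤ) ^ (k + 2)))]

theorem bset_card (B : Set (IrrCharacter G)) : Nat.card B = (bset B).card := by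
  rw [Nat.card_eq_card_toFinset, show B.toFinset = bset B by ext χ; simp]

theorem height_card (B : Set (IrrCharacter G)) (j : ℕ) :
    Nat.card {χ : IrrCharacter G // χ ∈ B ∧ blockHeight 2 B (χ : G → ℂ) = j} =
      ((bset B).filter fun χ : IrrCharacter G => blockHeight 2 B (χ : G → ℂ) = j).card := by
  rw [Nat.card_eq_fintype_card, Fintype.card_subtype]
  congr 1
  ext χ
  simp

set_option maxHeartbeats 1000000 in
/-- **The invariants of a block with semidihedral defect group.** -/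
theorem semidihedral_invariants (hM : IsPModular 2 M) (hmax : IsMaximalBrauerPair 2 M B D e) (d : SData D ι) :
    (Nat.card B = half k + 3 ∨ Nat.card B = half k + 4) ∧ 1 ≤ blockRank 2 B ∧ blockRank 2 B ≤ 3 ∧
      (blockRank 2 B = 3 → Nat.card B = half k + 4) ∧ (blockRank 2 B = 1 → Nat.card B = half k + 3) ∧
      Nat.card {χ : IrrCharacter G // χ ∈ B ∧ blockHeight 2 B (χ : G → ℂ) = 0} = 4 ∧
      Nat.card {χ : IrrCharacter G // χ ∈ B ∧ blockHeight 2 B (χ : G → ℂ) = 1} = half k - 1 ∧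
      ∀ χ ∈ B, blockHeight 2 B (χ : G → ℂ) = 0 ∨ blockHeight 2 B (χ : G → ℂ) = 1 ∨
        blockHeight 2 B (χ : G → ℂ) = k + 2 := by
  have hP := hmax.1.1
  have hB := hmax.1.2.1
  have hzD : zsd ι ∈ D := d.mem _
  obtain ⟨bz, hbz, -⟩ := subsection_data hM hmax hzD
  obtain ⟨f, g, c, Z⟩ := exists_zrows hM hmax d hbz
  obtain ⟨hiff, h4, hfg⟩ := Z.parity_facts hM hmax d
  obtain ⟨χ₀, hχ₀, h₀⟩ := exists_height_zero (p := 2) hM hB
  have hf₀ := (hiff χ₀ hχ₀).mpr h₀
  have hl1 : 1 ≤ blockRank 2 B := blockRank_pos (p := 2) hB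
  -- the element facts
  have hz_rot : ∀ j : ZMod (2 ^ (k + 3)), j ≠ 0 → j ≠ half k → Unfused 2 M D e (zsd ι) (ι ⟨j, false⟩) :=
    fun j hj hj' => unfused_of_not_conj fun w he => d.rot_sq_ne hj hj' (by
      have h := conj_sq he
      rwa [d.zsd_sq, conj_eq_one_iff] at h)
  have hzx : Unfused 2 M D e (zsd ι) (ι ⟨1, true⟩) := unfused_of_not_conj fun w he => d.zsd_ne_one (by
    have h := conj_sq he
    rwa [d.refl1_sq, d.zsd_sq, conj_eq_one_iff] at h)
  -- the bound
  have hlow : blockRank 2 B + half k + 1 ≤ (bset B).card := by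
    have hh : 1 ≤ half k := Nat.one_le_two_pow
    rcases Z.two with hlz | ⟨hlz, hcg, hfg0, hc⟩
    · obtain ⟨cx, hcx, hnex⟩ := exists_col hM hmax (d.mem (⟨1, true⟩ : Sd k))
      have := rank_bound hM hmax d ![zsd ι, ι ⟨1, true⟩]
        (fun i => by fin_cases i <;> [exact ⟨hzD, d.zsd_ne_one⟩; exact ⟨d.mem _, d.refl_ne_one _⟩])
        ![fun χ => (f χ : ℂ), cx]
        (fun i b hb => by
          fin_cases i
          · simp only [Fin.zero_eta, Matrix.cons_val_zero] at hb ⊢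
            rw [subpair_eq hM hP hb hbz]; exact Z.col_f
          · simp only [Fin.mk_one, Matrix.cons_val_one, Matrix.cons_val_zero] at hb ⊢
            exact hcx b hb)
        (fun i => by fin_cases i <;> [exact nonzero_col_f Z; exact hnex])
        (fun i j hj hj' => by
          fin_cases i
          · exact hz_rot j hj hj'
          · exact (refl_rot_unfused hM hmax d hbz hlz hj hj').symm hM hmax)
        (fun i i' hii => by
          fin_cases i <;> fin_cases i'
          · exact absurd rfl hii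
          · exact Or.inl hzx
          · exact Or.inl (hzx.symm hM hmax)
          · exact absurd rfl hii)
      omega
    · have hneg : ∃ χ ∈ B, (g χ : ℂ) ≠ 0 := by
        by_contra hno
        push Not at hno
        rcases hc with ⟨-, h8, -⟩ | ⟨-, h8⟩ <;>
          · rw [Finset.sum_eq_zero fun χ hχ => by
              rw [show g χ = 0 from Int.cast_eq_zero.mp (hno χ (mem_bset.mp hχ)), mul_zero]] at h8
            norm_num at h8
      have := rank_bound hM hmax d ![zsd ι, zsd ι]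
        (fun i => by fin_cases i <;> exact ⟨hzD, d.zsd_ne_one⟩)
        ![fun χ => (f χ : ℂ), fun χ => (g χ : ℂ)]
        (fun i b hb => by
          fin_cases i
          · simp only [Fin.zero_eta, Matrix.cons_val_zero] at hb ⊢
            rw [subpair_eq hM hP hb hbz]; exact Z.col_f
          · simp only [Fin.mk_one, Matrix.cons_val_one, Matrix.cons_val_zero] at hb ⊢
            rw [subpair_eq hM hP hb hbz]; exact hcg)
        (fun i => by fin_cases i <;> [exact nonzero_col_f Z; exact hneg])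
        (fun i j hj hj' => by fin_cases i <;> exact hz_rot j hj hj')
        (fun i i' hii => by
          right
          fin_cases i <;> fin_cases i'
          · exact absurd rfl hii
          · simp only [Fin.zero_eta, Fin.mk_one, Matrix.cons_val_zero, Matrix.cons_val_one, map_intCast]
            exact_mod_cast hfg0
          · simp only [Fin.zero_eta, Fin.mk_one, Matrix.cons_val_zero, Matrix.cons_val_one, map_intCast]
            have : ∑ χ ∈ bset B, g χ * f χ = 0 := by rw [← hfg0]; exact Finset.sum_congr rfl fun _ _ => mul_comm _ _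
            exact_mod_cast this
          · exact absurd rfl hii)
      omega
  -- even values give height one
  have hone : ∀ ψ ∈ B, (f ψ = 2 ∨ f ψ = -2) → blockHeight 2 B (ψ : G → ℂ) = 1 := by
    intro ψ hψ hf2
    have heven : ¬ Odd (f ψ) := by rcases hf2 with e | e <;> rw [e] <;> decide
    have hne0 : blockHeight 2 B (ψ : G → ℂ) ≠ 0 := fun h => heven ((hiff ψ hψ).mpr h)
    have h4dvd : (4 : ℤ) ∣ (c : ℤ) * (g χ₀ * g ψ) := by
      rcases Z.two with hlz | ⟨-, -, -, hc⟩
      · rw [Z.one hlz ψ, mul_zero, mul_zero]; exact dvd_zero _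
      rcases hc with ⟨hc, -, hpar⟩ | ⟨hc, -⟩
      · obtain ⟨w, hw⟩ := Int.not_odd_iff_even.mp fun ho => heven ((hpar ψ).mp ho)
        exact ⟨2 ^ k * (g χ₀ * w), by rw [hw, hc]; push_cast; ring⟩
      · exact Dvd.dvd.mul_right ⟨2 ^ k, by rw [hc]; push_cast; ring⟩ _
    by_contra hne1
    have h2 := (pow_dvd_pow (2 : ℤ) (show 2 ≤ blockHeight 2 B (ψ : G → ℂ) by omega)).trans
      (Z.exact χ₀ hχ₀ h₀ ψ hψ).1
    rw [show (2 : ℤ) ^ 2 = 4 by norm_num] at h2
    have h3 := (Int.dvd_add_left h4dvd).mp h2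
    obtain ⟨a, ha⟩ := hf₀
    obtain ⟨q, hq⟩ := h3
    rcases hf2 with e | e <;> rw [e, ha] at hq <;> omega
  -- the zeros of `f`
  have hh : 1 ≤ half k := Nat.one_le_two_pow
  have hcardB := bset_card B
  have hc0 : ((bset B).filter fun χ : IrrCharacter G => blockHeight 2 B (χ : G → ℂ) = 0).card = 4 := by
    rw [← h4]
    exact congrArg Finset.card (Finset.filter_congr fun χ hχ => (hiff χ (mem_bset.mp hχ)).symm)
  have hsplit := Finset.card_filter_add_card_filter_not (s := bset B) (fun χ => Odd (f χ))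
  rw [height_card, height_card, hcardB]
  by_cases hall : ∀ χ ∈ bset B, f χ ≠ 0
  · -- no zero
    obtain ⟨hk3, hev⟩ : (bset B).card = half k + 3 ∧ ∀ χ ∈ bset B, ¬ Odd (f χ) → (f χ = 2 ∨ f χ = -2) := by
      rcases count_one (bset B) f Z.norm_f h4 hall (by omega) with ⟨h1, -, h2⟩ | ⟨h1, -⟩
      · exact ⟨h1, h2⟩
      · omega
    have hht : ∀ χ ∈ B, ¬ Odd (f χ) → blockHeight 2 B (χ : G → ℂ) = 1 := fun χ hχ he =>
      hone χ hχ (hev χ (mem_bset.mpr hχ) he)
    refine ⟨Or.inl hk3, hl1, by omega, fun h3 => by omega, fun _ => hk3, hc0, ?_, fun χ hχ => ?_⟩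
    · rw [show ((bset B).filter fun χ : IrrCharacter G => blockHeight 2 B (χ : G → ℂ) = 1) =
        (bset B).filter fun χ => ¬ Odd (f χ) from Finset.filter_congr fun χ hχ =>
          ⟨fun h1 ho => by rw [(hiff χ (mem_bset.mp hχ)).mp ho] at h1; omega, hht χ (mem_bset.mp hχ)⟩]
      omega
    · by_cases ho : Odd (f χ)
      · exact Or.inl ((hiff χ hχ).mp ho)
      · exact Or.inr (Or.inl (hht χ hχ ho))
  -- one zero
  rcases Z.two with hlz | ⟨hlz, -, hfg0, hc⟩
  · exact absurd (fun χ hχ he => (hfg χ (mem_bset.mp hχ) he).1 (Z.one hlz χ)) hall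
  obtain ⟨N, hN, hN', hN8⟩ : ∃ N : ℤ, (N = 4 ∨ N = 8) ∧ ∑ χ ∈ bset B, g χ * g χ = N ∧
      (N = 8 → c = 2 ^ (k + 1) ∧ ∀ χ, (Odd (g χ) ↔ Odd (f χ))) := by
    rcases hc with ⟨h1, h2, h3⟩ | ⟨-, h2⟩
    · exact ⟨8, Or.inr rfl, h2, fun _ => ⟨h1, h3⟩⟩
    · exact ⟨4, Or.inl rfl, h2, fun h => absurd h (by norm_num)⟩
  obtain ⟨r, hrS, hfr, hgr, hN88, hgodd, -, hev, hk⟩ := (count_two (bset B) f g hN
    (fun h χ _ => (hN8 h).2 χ) Z.norm_f hN' h4
    (fun χ hχ he => ⟨(hfg χ (mem_bset.mp hχ) he).1, fun y hy ho => (hfg χ (mem_bset.mp hχ) he).2 y (mem_bset.mp hy) ho⟩)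
    (by omega)).resolve_left hall
  have hrB := mem_bset.mp hrS
  have hhr : blockHeight 2 B (r : G → ℂ) = k + 2 := by
    obtain ⟨h1, h2⟩ := Z.exact χ₀ hχ₀ h₀ r hrB
    rw [hfr, mul_zero, zero_add, (hN8 hN88).1] at h1 h2
    push_cast at h1 h2
    obtain ⟨s, hs, hm⟩ : ∃ s : ℤ, (s = 1 ∨ s = -1) ∧ (2 : ℤ) ^ (k + 1) * (g χ₀ * g r) = s * 2 ^ (k + 2) := by
      rcases hgodd χ₀ (mem_bset.mpr hχ₀) hf₀ with e | e <;> rcases hgr with e' | e' <;> rw [e, e']
      · exact ⟨1, Or.inl rfl, by ring⟩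
      · exact ⟨-1, Or.inr rfl, by ring⟩
      · exact ⟨-1, Or.inr rfl, by ring⟩
      · exact ⟨1, Or.inl rfl, by ring⟩
    rw [hm] at h1 h2
    have hsu : IsUnit s := Int.isUnit_iff.mpr hs
    rw [hsu.dvd_mul_left] at h1 h2
    have e1 : blockHeight 2 B (r : G → ℂ) ≤ k + 2 := (pow_dvd_pow_iff (by norm_num) (by
      rw [Int.isUnit_iff]; norm_num)).mp h1
    have e2 : ¬ blockHeight 2 B (r : G → ℂ) + 1 ≤ k + 2 := fun h => h2 (pow_dvd_pow 2 h)
    omega
  have hl : blockRank 2 B ≠ 1 := rank_ne_one_of_height hM hmax d hrB hhr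
  have hk4 : (bset B).card = half k + 4 := by omega
  refine ⟨Or.inr hk4, hl1, by omega, fun _ => hk4, fun h => absurd h hl, hc0, ?_, fun χ hχ => ?_⟩
  · have hrO : r ∈ (bset B).filter fun χ => ¬ Odd (f χ) :=
      Finset.mem_filter.mpr ⟨hrS, by rw [hfr]; decide⟩
    rw [show ((bset B).filter fun χ : IrrCharacter G => blockHeight 2 B (χ : G → ℂ) = 1) =
        ((bset B).filter fun χ => ¬ Odd (f χ)).erase r from Finset.ext fun χ => by
          simp only [Finset.mem_erase, Finset.mem_filter]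
          refine ⟨fun ⟨hχ, h1⟩ => ⟨fun he => by rw [he, hhr] at h1; omega, hχ, fun ho => by
            rw [(hiff χ (mem_bset.mp hχ)).mp ho] at h1; omega⟩, fun ⟨hne, hχ, he⟩ => ⟨hχ, ?_⟩⟩
          exact hone χ (mem_bset.mp hχ) (hev χ hχ hne he),
      Finset.card_erase_of_mem hrO]
    omega
  · by_cases ho : Odd (f χ)
    · exact Or.inl ((hiff χ hχ).mp ho)
    · by_cases hr' : χ = r
      · subst hr'; exact Or.inr (Or.inr hhr)
      · exact Or.inr (Or.inl (hone χ hχ (hev χ (mem_bset.mpr hχ) hr' ho)))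

end CfsgLib.SDDefect
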