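import Cfsg.Agent.Lib.BlockArith.SDDefect.Data
import Cfsg.Agent.Lib.Blocks.QuatDefect.Bar
import Cfsg.Agent.Lib.BlockArith.RankThree.Main

/-!
# The block at the central involution

* `frame_of_dihedral`: the shape of the block matrix for a dihedral defect group;
* `exists_two_form`: a block with a central involution in its semidihedral defect group and two
  modular characters has the matrix `u uᵀ + c p pᵀ`.
-/

set_option autoImplicit false

noncomputable section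

open scoped ComplexConjugate Classical

namespace CfsgLib.SDDefect

open Cfsg CfsgLib.Blocks CfsgLib.BlockArith CfsgLib.Char CfsgLib.BrauerPairs CfsgLib.NilBlock
open CfsgLib.Invol.QDW

universe u

variable {M : Ideal AlgInt} [M.IsMaximal] [hp : Fact (Nat.Prime 2)]

set_option maxHeartbeats 1000000 in
/-- The shape of the matrix for a dihedral defect group of order at least eight. -/
theorem frame_of_dihedral {H : Type u} [Group H] [Fintype H] (hM : IsPModular 2 M)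
    {b' : Set (IrrCharacter H)} (hb' : IsPBlock M b') {D' : Subgroup H} (hD' : IsDefectGroup 2 M b' D')
    {k' : ℕ} (hk1 : 1 ≤ k') (ε : D' ≃* DihedralGroup (2 ^ (k' + 1))) :
    ∃ (j ν : ℕ) (w t : IrrCharacter H → ℤ) (q : Fin j → IrrCharacter H → ℤ),
      blockRank 2 b' = j + 1 ∧
      CfsgLib.QuatDefect.Frame (bset b') (blockMat 2 b') (2 ^ (k' + 1)) j ν w t q := by
  have hcard' : Nat.card D' = 2 * 2 ^ (k' + 1) := by rw [Nat.card_congr ε.toEquiv, DihedralGroup.nat_card]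
  have hdef : 2 ^ blockDefect 2 b' = 2 * 2 ^ (k' + 1) := (card_defectGroup hM hb' hD').symm.trans hcard'
  set h := 2 ^ (k' + 1) with hh
  set S := bset b' with hS
  set N := blockMat 2 b' with hN
  have hsym : ∀ x y, N x y = N y x := fun x y => blockMat_symm x y
  have hdefZ : ((2 : ℕ) : ℤ) ^ blockDefect 2 b' = 2 * (h : ℤ) := by exact_mod_cast hdef
  have hsq : ∀ x ∈ S, ∀ z ∈ S, ∑ y ∈ S, N x y * N y z = 2 * (h : ℤ) * N x z := fun x hx z hz => by
    rw [← hdefZ]; exact CfsgLib.QuatDefect.sum_bset_blockMat_mul hM hb' (mem_bset.mp hx) (mem_bset.mp hz)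
  have htr : ∑ x ∈ S, N x x = 2 * (h : ℤ) * (blockRank 2 b' : ℤ) := by
    rw [hS, hN, CfsgLib.QuatDefect.sum_bset_blockMat_self hM hb', hdef]; push_cast; ring
  have hodd : ∀ x ∈ S, (Odd (N x x) ↔ blockHeight 2 b' (x : H → ℂ) = 0) := fun x hx => by
    constructor
    · intro ho
      by_contra hne
      have h1 := pow_height_dvd_blockMat (p := 2) hM hb' (mem_bset.mp hx) x
      refine Int.not_even_iff_odd.mpr ho (even_iff_two_dvd.mpr ((dvd_pow_self (2 : ℤ) hne).trans ?_))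
      exact_mod_cast h1
    · intro h0
      rw [← Int.not_even_iff_odd, even_iff_two_dvd]
      intro hd
      refine (not_dvd_blockMat_iff (p := 2) hM hb' (mem_bset.mp hx) (mem_bset.mp hx)).mpr h0 ?_
      rw [h0, zero_add, pow_one]
      exact_mod_cast hd
  obtain ⟨e', hmax'⟩ := exists_maximal_at hM hb' hD'
  obtain ⟨-, hl1, hl3, -, hht⟩ := CfsgLib.DihDefect.dihedral_defect_invariants hM hb' hD' hk1 ε
  set κ : DihedralGroup (2 ^ (k' + 1)) →* H := D'.subtype.comp ε.symm.toMonoidHom with hκ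
  have dd : CfsgLib.DihDefect.DData D' κ (2 ^ k') :=
    { inj := (Subgroup.subtype_injective _).comp ε.symm.injective
      range := by
        ext x
        refine ⟨?_, fun hx => ⟨ε ⟨x, hx⟩, ?_⟩⟩
        · rintro ⟨y, rfl⟩
          exact (ε.symm y).2
        · simp [hκ]
      hm := by rw [pow_succ]; ring
      hpos := Nat.pos_of_ne_zero (pow_ne_zero _ two_ne_zero)
      even := Nat.even_pow.mpr ⟨even_two, by omega⟩
      pow := ⟨k' + 1, rfl⟩ }
  obtain ⟨R, hR⟩ := CfsgLib.DihDefect.exists_rotRows hM hmax' dd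
  have := dd.neZero
  set ψ : AddChar (ZMod (2 ^ (k' + 1))) ℂ := ZMod.stdAddChar with hψdef
  have hψ : ψ.IsPrimitive := ZMod.isPrimitive_stdAddChar _
  choose u hu using fun χ i => hR.int ψ χ i
  obtain ⟨hh0, hnh, hidx⟩ := CfsgLib.DihDefect.idx_facts dd
  have hgram : ∀ i i' : ZMod (2 ^ (k' + 1)), i ≠ 0 → i' ≠ 0 → ∑ χ ∈ S, u χ i * u χ i' =
      (if i = i' then 1 else 0) + (if i = -i' then 1 else 0) + 2 := fun i i' hi hi' => by
    have hg := CfsgLib.DihDefect.coef_gram hψ S R hR.orth hi hi'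
    simp only [hu, map_intCast] at hg
    exact_mod_cast hg
  set n := 2 ^ k' - 1 with hndef
  set v : Fin n → IrrCharacter H → ℤ := fun i χ => u χ (CfsgLib.DihDefect.idx _ i) with hv
  set w : IrrCharacter H → ℤ := fun χ => u χ ((2 ^ k' : ℕ) : ZMod (2 ^ (k' + 1))) with hw
  set f : IrrCharacter H → ℤ := fun χ => w χ + 2 * ∑ i : Fin n, (-1) ^ ((i : ℕ) + 1) * v i χ with hf
  have hfR : ∀ χ, R χ ((2 ^ k' : ℕ) : ZMod (2 ^ (k' + 1))) = (f χ : ℂ) :=
    CfsgLib.DihDefect.zval_eq dd hψ hR hu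
  obtain ⟨bz, vz, hle, hind, hdf, hnorm, hval, -⟩ := hR.sec _ hh0
  have hdB : blockDefect 2 bz = blockDefect 2 b' := by
    rw [if_pos rfl] at hdf
    refine Nat.pow_right_injective le_rfl ?_
    show 2 ^ blockDefect 2 bz = 2 ^ blockDefect 2 b'
    rw [hdf, hdef]
  obtain ⟨hfodd, hdvd⟩ := CfsgLib.DihDefect.height_facts hM (cen_zpowers _)
    (exists_pow_of_mem hmax'.1.1.1 (dd.mem _)) hind hdB f
    (fun χ η => by rw [hR.ctr_eq hnorm hval, hfR, hfR])
  obtain ⟨χ₀, hχ₀, hh₀⟩ := exists_height_zero (p := 2) hM hb'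
  have hpar : ∀ χ, Odd (f χ) ↔ Odd (w χ) := fun χ => by
    simp [hf, parity_simps]
  have hvv' : ∀ i i', ∑ χ ∈ S, v i χ * v i' χ = if i = i' then 3 else 2 := fun i i' => by
    show ∑ χ ∈ S, u χ (CfsgLib.DihDefect.idx _ i) * u χ (CfsgLib.DihDefect.idx _ i') = _
    rw [hgram _ _ (hidx i).1 (hidx i').1, if_neg ((hidx i).2.2.2 i').2]
    by_cases hij : i = i'
    · subst hij; simp
    · rw [if_neg fun e => hij (((hidx i).2.2.2 i').1.mp e), if_neg hij]; norm_num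
  have hvw : ∀ i, ∑ χ ∈ S, v i χ * w χ = 2 := fun i => by
    show ∑ χ ∈ S, u χ (CfsgLib.DihDefect.idx _ i) * u χ ((2 ^ k' : ℕ) : ZMod (2 ^ (k' + 1))) = _
    rw [hgram _ _ (hidx i).1 hh0, if_neg (hidx i).2.1, if_neg (hidx i).2.2.1]; norm_num
  obtain ⟨hw1, hw4, hshape⟩ := CfsgLib.DihDefect.shapes S (t := n)
    ⟨2 ^ (k' - 1) - 1, by
      obtain ⟨k'', rfl⟩ : ∃ k'', k' = k'' + 1 := ⟨k' - 1, by omega⟩
      have := Nat.one_le_two_pow (n := k'')
      rw [hndef, pow_succ, Nat.add_sub_cancel]; omega⟩ v w hvv' hvw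
    (by
      show ∑ χ ∈ S, u χ ((2 ^ k' : ℕ) : ZMod (2 ^ (k' + 1))) * u χ ((2 ^ k' : ℕ) : ZMod (2 ^ (k' + 1))) = _
      rw [hgram _ _ hh0 hh0, hnh, if_pos rfl]; norm_num)
    ⟨χ₀, mem_bset.mpr hχ₀, (hpar χ₀).mp (hfodd χ₀ hχ₀ hh₀)⟩
    (fun χ hχ => by
      by_contra hno
      push Not at hno
      refine (hdvd χ₀ hχ₀ hh₀ χ (mem_bset.mp hχ)).1 ?_
      show w χ + 2 * ∑ i : Fin n, (-1) ^ ((i : ℕ) + 1) * v i χ = 0
      simp [hno.1, hno.2])
  rcases hshape with ⟨hcS, hflower⟩ | ⟨ht, hE⟩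
  swap
  · exfalso
    obtain rfl : k' = 2 := Nat.pow_right_injective le_rfl (show 2 ^ k' = 2 ^ 2 by omega)
    exact CfsgLib.DihDefect.no_exceptional hM hmax' dd hR hψ hu hE
  have hh0iff : ∀ χ ∈ b', (blockHeight 2 b' (χ : H → ℂ) = 0 ↔ w χ ≠ 0) := fun χ hχ => by
    refine ⟨fun h0 e => ?_, fun hne => ?_⟩
    · obtain ⟨r, hr⟩ := (hpar χ).mp (hfodd χ hχ h0)
      omega
    · by_contra hne0
      have h1 : (2 : ℤ) ∣ f χ₀ * f χ :=
        (Dvd.dvd.trans (by exact_mod_cast dvd_pow_self 2 hne0)) (hdvd χ₀ hχ₀ hh₀ χ hχ).2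
      refine Int.not_even_iff_odd.mpr ((hfodd χ₀ hχ₀ hh₀).mul ((hpar χ).mpr ?_)) (even_iff_two_dvd.mpr h1)
      rcases (hw1 χ (mem_bset.mpr hχ)).resolve_left hne with e | e <;> rw [e]
      · exact odd_one
      · exact odd_neg.mpr odd_one
  have hker : ∀ i, ∀ x ∈ S, ∑ y ∈ S, N x y * u y i = 0 := fun i x hx => by
    refine CfsgLib.QuatDefect.sum_blockMat_eq_zero hM hb' (fun y => u y i) (fun g hg => ?_) (mem_bset.mp hx)
    simp only [← hu, CfsgLib.DihDefect.coef, Finset.mul_sum]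
    rw [Finset.sum_comm]
    refine Finset.sum_eq_zero fun l _ => ?_
    by_cases hl : l = 0
    · simp [hl]
    · calc _ = ((2 ^ (k' + 1) : ℕ) : ℂ)⁻¹ * (ψ (-(i * l)) - 1) *
            ∑ χ ∈ S, (χ : H → ℂ) g * R χ l := by
            rw [Finset.mul_sum]
            exact Finset.sum_congr rfl fun χ _ => by ring
        _ = 0 := by rw [hR.reg l hl g hg, mul_zero]
  have hn1 : 1 ≤ n := by
    have : 2 ≤ 2 ^ k' := Nat.le_self_pow (by omega) 2
    omega
  obtain ⟨j, ν, t, q, hj, hF⟩ := CfsgLib.QuatDefect.frame_of_flower (S := S) (N := N) (h := h) (n := n) (k := k' + 1)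
    (l := blockRank 2 b') (by have := Nat.one_le_two_pow (n := k'); rw [hndef, hh, pow_succ]; omega) hh hn1 hl1 hl3
    hw1 hw4 (by rw [hcS]) hflower hvv' hvw hsym hsq htr (hker _) (fun x hx i => hker _ x hx)
    (fun x hx hx0 => (hodd x hx).mpr ((hh0iff x (mem_bset.mp hx)).mpr hx0))
    (fun x hx hx0 => Int.not_odd_iff_even.mp fun ho =>
      (hh0iff x (mem_bset.mp hx)).mp ((hodd x hx).mp ho) hx0)
    (fun x hx y hy hx0 hy0 => by
      have hy1 : blockHeight 2 b' (y : H → ℂ) = 1 := by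
        have h1 := hht y (mem_bset.mp hy)
        have h2 : blockHeight 2 b' (y : H → ℂ) ≠ 0 := fun e => (hh0iff y (mem_bset.mp hy)).mp e hy0
        omega
      have h3 := pow_height_dvd_blockMat (p := 2) hM hb' (mem_bset.mp hy) x
      have h4 := (not_dvd_blockMat_iff (p := 2) hM hb' (mem_bset.mp hy) (mem_bset.mp hx)).mpr
        ((hh0iff x (mem_bset.mp hx)).mpr hx0)
      rw [hy1] at h3 h4
      rw [hsym x y]
      refine ⟨even_iff_two_dvd.mpr (by exact_mod_cast h3), fun h5 => h4 ?_⟩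
      exact_mod_cast h5)
  exact ⟨j, ν, w, t, q, hj, hF⟩

variable {G : Type u} [Group G] [Fintype G] {B : Set (IrrCharacter G)} {D : Subgroup G} {k : ℕ} {ι : Sd k →* G}

set_option maxHeartbeats 1000000 in
/-- **The matrix of the block at a central involution.** -/
theorem exists_two_form (hM : IsPModular 2 M) (hB : IsPBlock M B) (hD : IsDefectGroup 2 M B D)
    (d : SData D ι) (hz : zsd ι ∈ Subgroup.center G) (hl : blockRank 2 B ≠ 1) :
    blockRank 2 B = 2 ∧ ∃ (u p : IrrCharacter G → ℤ) (c : ℕ),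
      (∀ φ ∈ B, ∀ φ' ∈ B, blockMat 2 B φ φ' = u φ * u φ' + (c : ℤ) * (p φ * p φ')) ∧
      ((c = 2 ^ (k + 1) ∧ ∀ φ ∈ B, (Odd (p φ) ↔ Odd (u φ))) ∨ c = 2 ^ (k + 2)) := by
  set Q := Subgroup.zpowers (zsd ι) with hQdef
  have hQn : Q.Normal := CfsgLib.RankThree.zpowers_normal_of_center hz
  let instQ : Fintype (G ⧸ Q) := Fintype.ofFinite _
  have hP : IsPGroup 2 Q := IsPGroup.of_card (n := 1) (by rw [Nat.card_zpowers, d.orderOf_zsd, pow_one])
  have hC : ∃ j : ℕ, (Subgroup.centralizer (Q : Set G)).index = 2 ^ j :=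
    centralizer_central_index (Subgroup.zpowers_le.mpr hz)
  have hb' := isPBlock_inflSet hM hP hC hB
  have hD' := CfsgLib.QuatDefect.isDefectGroup_inflSet hM hP hC hB hD
  have hmem : ∀ x : G, x ∈ Q ↔ x = 1 ∨ x = zsd ι := fun x => by
    refine ⟨fun hx => ?_, fun hx => ?_⟩
    · obtain ⟨j, rfl⟩ := hx
      show zsd ι ^ j = 1 ∨ zsd ι ^ j = zsd ι
      rcases Int.emod_two_eq_zero_or_one j with h | h <;>
        rw [← zpow_mod_orderOf, d.orderOf_zsd, Nat.cast_ofNat, h] <;> simp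
    · rcases hx with h | h <;> rw [h]
      · exact Q.one_mem
      · exact Subgroup.mem_zpowers _
  set π := (QuotientGroup.mk' Q).comp ι with hπ
  have hr : π.range = D.map (QuotientGroup.mk' Q) := by rw [hπ, MonoidHom.range_comp, d.range]
  have hker : π.ker = (CfsgLib.RankThree.sdToDihedral k).ker := by
    ext x
    rw [MonoidHom.mem_ker, MonoidHom.mem_ker, CfsgLib.RankThree.sdToDihedral_eq_one, hπ, MonoidHom.comp_apply,
      QuotientGroup.mk'_apply, QuotientGroup.eq_one_iff, hmem, ← map_one ι, zsd, d.inj.eq_iff, d.inj.eq_iff]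
  let δ : D.map (QuotientGroup.mk' Q) ≃* DihedralGroup (2 ^ (k + 1 + 1)) :=
    (MulEquiv.subgroupCongr hr).symm.trans ((QuotientGroup.quotientKerEquivRange π).symm.trans
      ((QuotientGroup.quotientMulEquivOfEq hker).trans
        (QuotientGroup.quotientKerEquivOfSurjective (CfsgLib.RankThree.sdToDihedral k)
          (CfsgLib.RankThree.sdToDihedral_surjective k))))
  obtain ⟨j, ν, w, t, q, hj, hF⟩ := frame_of_dihedral hM hb' hD' (k' := k + 1) (by omega) δ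
  rw [← blockRank_inflSet hM hP hC hB] at hj
  have hne3 : blockRank 2 B ≠ 3 := fun h3 => CfsgLib.RankThree.not_central_involution_sd hM hB hD
    ((MonoidHom.ofInjective d.inj).trans (MulEquiv.subgroupCongr d.range)).symm h3 hz d.orderOf_zsd
  have hj2 := hF.j_le
  obtain rfl : j = 1 := by omega
  refine ⟨hj, ?_⟩
  set b' := inflSet Q B with hb'def
  -- the defects
  have hdb : blockDefect 2 B = blockDefect 2 b' + 1 := by
    rw [blockDefect_inflSet hM hP hC hB, Nat.card_zpowers, d.orderOf_zsd, Nat.prime_two.factorization_self]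
  have hcardG : Nat.card G = Nat.card (G ⧸ Q) * 2 := by
    rw [Subgroup.card_eq_card_quotient_mul_card_subgroup Q, Nat.card_zpowers, d.orderOf_zsd]
  -- combinations
  have hcomb : ∀ φ : IrrCharacter G, ∃ c : IrrCharacter (G ⧸ Q) → ℤ, φ ∈ B → ∀ g : G, ¬ 2 ∣ orderOf g →
      (φ : G → ℂ) g = ∑ ψ : IrrCharacter (G ⧸ Q), if ψ ∈ b' then (c ψ : ℂ) * (ψ : G ⧸ Q → ℂ) g else 0 :=
    fun φ => by
      by_cases hφ : φ ∈ B
      · obtain ⟨c, hc⟩ := exists_quotient_combination hM hP hC hB hφ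
        exact ⟨c, fun _ => hc⟩
      · exact ⟨0, fun h => absurd h hφ⟩
  choose cc hcc using hcomb
  have hlift : ∀ φ ∈ B, ∀ φ' ∈ B, blockMat 2 B φ φ' =
      ∑ ψ ∈ bset b', ∑ ψ' ∈ bset b', cc φ ψ * cc φ' ψ' * blockMat 2 b' ψ ψ' := by
    intro φ hφ φ' hφ'
    apply Int.cast_injective (α := ℂ)
    rw [blockMat_eq_regSum hM hB hφ]
    have hfun : ∀ s : G, (if 2 ∣ orderOf s then 0 else (φ : G → ℂ) s * conj ((φ' : G → ℂ) s)) =
        if 2 ∣ orderOf s then 0 else (fun x : G ⧸ Q =>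
          ∑ ψ ∈ bset b', ∑ ψ' ∈ bset b', ((cc φ ψ * cc φ' ψ' : ℤ) : ℂ) *
            ((ψ : G ⧸ Q → ℂ) x * conj ((ψ' : G ⧸ Q → ℂ) x))) (s : G ⧸ Q) := fun s => by
      by_cases hs : 2 ∣ orderOf s
      · simp only [if_pos hs]
      · simp only [if_neg hs]
        rw [hcc φ hφ s hs, hcc φ' hφ' s hs, ← Finset.sum_filter, ← Finset.sum_filter, map_sum,
          show Finset.univ.filter (fun ψ : IrrCharacter (G ⧸ Q) => ψ ∈ b') = bset b' by ext ψ; simp,
          Finset.sum_mul_sum]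
        refine Finset.sum_congr rfl fun ψ _ => Finset.sum_congr rfl fun ψ' _ => ?_
        rw [map_mul, map_intCast]
        push_cast
        ring
    rw [Finset.sum_congr rfl fun s _ => hfun s, CfsgLib.QuatDefect.sum_regular_lift hP hC
      (fun x : G ⧸ Q => ∑ ψ ∈ bset b', ∑ ψ' ∈ bset b', ((cc φ ψ * cc φ' ψ' : ℤ) : ℂ) *
            ((ψ : G ⧸ Q → ℂ) x * conj ((ψ' : G ⧸ Q → ℂ) x))), hdb]
    push_cast
    rw [Finset.mul_sum]
    rw [Finset.sum_congr rfl (g := fun x : G ⧸ Q => ∑ ψ ∈ bset b', ∑ ψ' ∈ bset b',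
      ((cc φ ψ : ℂ) * (cc φ' ψ' : ℂ)) * (((2 : ℂ) ^ blockDefect 2 b') / (Nat.card (G ⧸ Q) : ℂ) *
        if 2 ∣ orderOf x then 0 else (ψ : G ⧸ Q → ℂ) x * conj ((ψ' : G ⧸ Q → ℂ) x))) fun x _ => by
      by_cases hx : 2 ∣ orderOf x
      · simp [hx]
      · simp only [if_neg hx, Finset.mul_sum]
        refine Finset.sum_congr rfl fun ψ _ => Finset.sum_congr rfl fun ψ' _ => ?_
        have hne : (Nat.card (G ⧸ Q) : ℂ) ≠ 0 := Nat.cast_ne_zero.mpr Nat.card_pos.ne'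
        rw [hcardG, pow_succ]
        push_cast
        field_simp]
    rw [Finset.sum_comm]
    refine Finset.sum_congr rfl fun ψ hψ => ?_
    rw [Finset.sum_comm]
    refine Finset.sum_congr rfl fun ψ' _ => ?_
    rw [← Finset.mul_sum, ← Finset.mul_sum, blockMat_eq_regSum hM hb' (mem_bset.mp hψ)]
    push_cast
    rfl
  -- the frame
  obtain ⟨c, hc, hνc⟩ : ∃ c : ℕ, (ν : ℤ) * (c : ℤ) = 2 * ((2 ^ (k + 1 + 1) : ℕ) : ℤ) ∧
      ((c = 2 ^ (k + 1) ∧ ν = 4) ∨ c = 2 ^ (k + 2)) := by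
    rcases hF.ν_cases with e | ⟨e, -⟩
    · exact ⟨2 ^ (k + 1), by rw [e]; push_cast; ring, Or.inl ⟨rfl, e⟩⟩
    · exact ⟨2 ^ (k + 2), by rw [e]; push_cast; ring, Or.inr rfl⟩
  have hν0 : (ν : ℤ) ≠ 0 := by rcases hF.ν_cases with e | ⟨e, -⟩ <;> rw [e] <;> norm_num
  have hN : ∀ ψ ∈ bset b', ∀ ψ' ∈ bset b',
      blockMat 2 b' ψ ψ' = t ψ * t ψ' + (c : ℤ) * (q 0 ψ * q 0 ψ') := fun ψ hψ ψ' hψ' => by
    refine mul_left_cancel₀ hν0 ?_
    rw [hF.mat ψ hψ ψ' hψ', Fin.sum_univ_one, ← hc]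
    ring
  refine ⟨fun φ => ∑ ψ ∈ bset b', cc φ ψ * t ψ, fun φ => ∑ ψ ∈ bset b', cc φ ψ * q 0 ψ, c,
    fun φ hφ φ' hφ' => ?_, ?_⟩
  · rw [hlift φ hφ φ' hφ', Finset.sum_mul_sum, Finset.sum_mul_sum, Finset.mul_sum, ← Finset.sum_add_distrib]
    refine Finset.sum_congr rfl fun ψ hψ => ?_
    rw [Finset.mul_sum, ← Finset.sum_add_distrib]
    refine Finset.sum_congr rfl fun ψ' hψ' => ?_
    rw [hN ψ hψ ψ' hψ']
    ring
  rcases hνc with ⟨hc4, hν4⟩ | hc2
  · refine Or.inl ⟨hc4, fun φ _ => ?_⟩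
    have hpar : ((∑ ψ ∈ bset b', cc φ ψ * q 0 ψ : ℤ) : ZMod 2) = ((∑ ψ ∈ bset b', cc φ ψ * t ψ : ℤ) : ZMod 2) := by
      push_cast
      refine Finset.sum_congr rfl fun ψ hψ => ?_
      congr 1
      by_cases hw : w ψ = 0
      · rw [hF.q_off 0 ψ hψ hw]
        rcases hF.t_off ψ hψ hw with e | e <;> rw [e] <;> decide
      · rcases hF.t_on ψ hψ hw with e | e <;> rcases hF.q_on hν4 0 ψ hψ hw with e' | e' <;> rw [e, e'] <;> decide
    simp only [← ZMod.intCast_eq_one_iff_odd, hpar]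
  · exact Or.inr hc2

end CfsgLib.SDDefect
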