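import Cfsg.Agent.Lib.BlockArith.SDDefect.Quot
import Cfsg.Agent.Lib.BlockArith.SDDefect.Rank
import Cfsg.Agent.Lib.BlockArith.MajorSubsections

/-!
# The vectors of the section of the central involution

* `SData.restrict`: the defect group inside a centraliser;
* `sum_ctr_self`: the trace of the contributions;
* `ZRows`, `exists_zrows`: the contributions at the central involution are `f fᵀ + c g gᵀ`.
-/

set_option autoImplicit false

noncomputable section

open scoped ComplexConjugate Classical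

namespace CfsgLib.SDDefect

open Cfsg CfsgLib.Blocks CfsgLib.BlockArith CfsgLib.Char CfsgLib.BrauerPairs CfsgLib.NilBlock
open CfsgLib.Invol.QDW

universe u

variable {G : Type u} [Group G] {D : Subgroup G} {k : ℕ} {ι : Sd k →* G}

/-- The parametrisation inside an overgroup. -/
def subIota (H : Subgroup G) (ι : Sd k →* G) (h : ∀ x, ι x ∈ H) : Sd k →* H := ι.codRestrict H h

@[simp] theorem coe_subIota (H : Subgroup G) (ι : Sd k →* G) (h : ∀ x, ι x ∈ H) (x : Sd k) :
    ((subIota H ι h x : H) : G) = ι x := rfl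

theorem SData.restrict (d : SData D ι) {H : Subgroup G} (hle : D ≤ H) :
    SData (D.subgroupOf H) (subIota H ι fun x => hle (d.mem x)) where
  inj := fun a b h => d.inj (congrArg Subtype.val h)
  range := by
    ext y
    rw [Subgroup.mem_subgroupOf]
    constructor
    · rintro ⟨x, rfl⟩
      exact d.mem x
    · intro hy
      obtain ⟨x, hx⟩ := d.surj hy
      exact ⟨x, Subtype.ext hx⟩

theorem zsd_restrict_central (d : SData D ι) :
    zsd (subIota (Cen (Subgroup.zpowers (zsd ι))) ι fun x => d.le_cen (d.mem x)) ∈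
      Subgroup.center (Cen (Subgroup.zpowers (zsd ι))) :=
  Subgroup.mem_center_iff.mpr fun c => Subtype.ext
    (Subgroup.mem_centralizer_iff.mp c.2 _ (Subgroup.mem_zpowers _)).symm

variable [Fintype G] {M : Ideal AlgInt} [M.IsMaximal] {B : Set (IrrCharacter G)}

/-- The trace of the contributions. -/
theorem sum_ctr_self {p : ℕ} [Fact p.Prime] (hM : IsPModular p M) {x : G} {H : Subgroup G}
    (hH : H = Subgroup.centralizer ({x} : Set G)) (hx : ∃ j : ℕ, orderOf x = p ^ j)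
    {b : Set (IrrCharacter H)} (hind : IsInducedBlock M H b B) :
    ∑ χ ∈ bset B, ctr p x H b χ χ = ((p ^ blockDefect p b : ℕ) : ℂ) * (blockRank p b : ℂ) := by
  subst hH
  have := Fintype.ofFinite (Subgroup.centralizer ({x} : Set G))
  rw [← sum_contrib_self hM hx hind, ← Finset.sum_filter,
    show Finset.univ.filter (fun χ : IrrCharacter G => χ ∈ B) = bset B by ext χ; simp]
  exact Finset.sum_congr rfl fun χ _ => ctr_eq_contrib b χ χ

variable [hp : Fact (Nat.Prime 2)] {e : Set (IrrCharacter (Cen D))}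

/-- The integral vector of a form. -/
def intVec (x : G) {H : Subgroup G} (hx : x ∈ H) (b : Set (IrrCharacter H))
    (mult : IrrCharacter G → IrrCharacter H → ℕ) (u : IrrCharacter H → ℤ) (χ : IrrCharacter G) : ℤ :=
  ∑ φ : IrrCharacter H,
    if φ ∈ b then (if centScal φ ⟨x, hx⟩ = 1 then 1 else -1) * ((mult χ φ : ℤ) * u φ) else 0

omit [Fintype G] hp [M.IsMaximal] in
theorem intVec_zero [Fintype G] {x : G} {H : Subgroup G} (hx : x ∈ H) (b : Set (IrrCharacter H))
    (mult : IrrCharacter G → IrrCharacter H → ℕ) (χ : IrrCharacter G) :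
    intVec x hx b mult (fun _ => 0) χ = 0 := by simp [intVec]

omit hp [M.IsMaximal] in
theorem intVec_parity {x : G} {H : Subgroup G} (hx : x ∈ H) {b : Set (IrrCharacter H)}
    (mult : IrrCharacter G → IrrCharacter H → ℕ) {u v : IrrCharacter H → ℤ}
    (h : ∀ φ ∈ b, (Odd (v φ) ↔ Odd (u φ))) (χ : IrrCharacter G) :
    Odd (intVec x hx b mult v χ) ↔ Odd (intVec x hx b mult u χ) := by
  simp only [← ZMod.intCast_eq_one_iff_odd]
  suffices hs : ((intVec x hx b mult v χ : ℤ) : ZMod 2) = ((intVec x hx b mult u χ : ℤ) : ZMod 2) by rw [hs]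
  simp only [intVec, Int.cast_sum]
  refine Finset.sum_congr rfl fun φ _ => ?_
  by_cases hφ : φ ∈ b
  · have h2 : (v φ : ZMod 2) = (u φ : ZMod 2) := by
      have h1 := h φ hφ
      simp only [← ZMod.intCast_eq_one_iff_odd] at h1
      revert h1
      generalize (v φ : ZMod 2) = a
      generalize (u φ : ZMod 2) = a'
      revert a a'
      decide
    rw [if_pos hφ, if_pos hφ]
    push_cast
    rw [h2]
  · simp [hφ]

/-- The contributions at the central involution. -/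
structure ZRows (B : Set (IrrCharacter G)) (ι : Sd k →* G)
    (b : Set (IrrCharacter (Cen (Subgroup.zpowers (zsd ι))))) (f g : IrrCharacter G → ℤ) (c : ℕ) : Prop where
  ctr_eq : ∀ χ η, ctr 2 (zsd ι) (Cen (Subgroup.zpowers (zsd ι))) b χ η =
    ((f χ * f η + (c : ℤ) * (g χ * g η) : ℤ) : ℂ)
  even : Even c
  norm_f : ∑ χ ∈ bset B, f χ * f χ = 4 * (half k : ℤ)
  exact : ∀ χ ∈ B, blockHeight 2 B (χ : G → ℂ) = 0 → ∀ ψ ∈ B,
    (2 : ℤ) ^ blockHeight 2 B (ψ : G → ℂ) ∣ f χ * f ψ + (c : ℤ) * (g χ * g ψ) ∧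
      ¬ (2 : ℤ) ^ (blockHeight 2 B (ψ : G → ℂ) + 1) ∣ f χ * f ψ + (c : ℤ) * (g χ * g ψ)
  col_f : IsCol 2 (zsd ι) (Cen (Subgroup.zpowers (zsd ι))) b fun χ => (f χ : ℂ)
  one : blockRank 2 b = 1 → ∀ χ, g χ = 0
  two : blockRank 2 b = 1 ∨ (blockRank 2 b = 2 ∧
    IsCol 2 (zsd ι) (Cen (Subgroup.zpowers (zsd ι))) b (fun χ => (g χ : ℂ)) ∧
    ∑ χ ∈ bset B, f χ * g χ = 0 ∧
    ((c = 2 ^ (k + 1) ∧ ∑ χ ∈ bset B, g χ * g χ = 8 ∧ ∀ χ, (Odd (g χ) ↔ Odd (f χ))) ∨
      (c = 2 ^ (k + 2) ∧ ∑ χ ∈ bset B, g χ * g χ = 4)))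

set_option maxHeartbeats 1000000 in
/-- **The vectors of the central involution.** -/
theorem exists_zrows (hM : IsPModular 2 M) (hmax : IsMaximalBrauerPair 2 M B D e) (d : SData D ι)
    {b : Set (IrrCharacter (Cen (Subgroup.zpowers (zsd ι))))}
    (hb : SubpairLE 2 M (Subgroup.zpowers (zsd ι)) b D e) :
    ∃ (f g : IrrCharacter G → ℤ) (c : ℕ), ZRows B ι b f g c := by
  have hzD : zsd ι ∈ D := d.mem _
  obtain ⟨b', hb', hind', hbp', hpow⟩ := subsection_data hM hmax hzD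
  rw [← subpair_eq hM hmax.1.1 hb hb'] at hbp' hind'
  have hdC := d.restrict d.le_cen
  have hzc := zsd_restrict_central d
  have hDb := pairs_defect_central hM hmax hb d.le_cen
  have hdef : blockDefect 2 b = k + 4 := by
    refine Nat.pow_right_injective le_rfl ?_
    show 2 ^ blockDefect 2 b = 2 ^ (k + 4)
    rw [← card_defectGroup hM hbp'.2 hDb, card_subgroupOf' d.le_cen, d.card]
  have hdB : blockDefect 2 b = blockDefect 2 B := by
    rw [hdef]
    refine Nat.pow_right_injective le_rfl ?_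
    show 2 ^ (k + 4) = 2 ^ blockDefect 2 B
    rw [← d.card, card_defectGroup hM hmax.1.2.1 (isDefectGroup_of_maximal hM hmax)]
  -- the forms
  obtain ⟨u, p, c, hform, hc2⟩ : ∃ (u p : IrrCharacter (Cen (Subgroup.zpowers (zsd ι))) → ℤ) (c : ℕ),
      (∀ φ ∈ b, ∀ φ' ∈ b, blockMat 2 b φ φ' = u φ * u φ' + (c : ℤ) * (p φ * p φ')) ∧
      ((blockRank 2 b = 1 ∧ p = 0 ∧ c = 2) ∨ (blockRank 2 b = 2 ∧
        ((c = 2 ^ (k + 1) ∧ ∀ φ ∈ b, (Odd (p φ) ↔ Odd (u φ))) ∨ c = 2 ^ (k + 2)))) := by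
    by_cases hl : blockRank 2 b = 1
    · obtain ⟨u, hu, -⟩ := blockMat_rank_one hM hbp'.2 hl
      exact ⟨u, 0, 2, fun φ hφ φ' hφ' => by simp [hu φ hφ φ' hφ'], Or.inl ⟨hl, rfl, rfl⟩⟩
    · obtain ⟨h2, u, p, c, h1, hc⟩ := exists_two_form hM hbp'.2 hDb hdC hzc hl
      exact ⟨u, p, c, h1, Or.inr ⟨h2, hc⟩⟩
  have hmem : zsd ι ∈ Cen (Subgroup.zpowers (zsd ι)) := d.le_cen hzD
  choose mult hmult using fun (χ : IrrCharacter G) (φ : IrrCharacter (Cen (Subgroup.zpowers (zsd ι)))) =>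
    classInner_char_nat (isCharacter_res (Cen (Subgroup.zpowers (zsd ι))) (isCharacter_of_isIrr χ.2))
      (isCharacter_of_isIrr φ.2)
  have hsign : ∀ φ : IrrCharacter (Cen (Subgroup.zpowers (zsd ι))),
      centScal φ ⟨zsd ι, hmem⟩ = ((if centScal φ ⟨zsd ι, hmem⟩ = 1 then 1 else -1 : ℤ) : ℂ) := fun φ => by
    have h2 : centScal φ ⟨zsd ι, hmem⟩ ^ 2 = 1 := by
      have hc' : (⟨zsd ι, hmem⟩ : Cen (Subgroup.zpowers (zsd ι))) ∈ Subgroup.center (Cen (Subgroup.zpowers (zsd ι))) := hzc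
      rw [← centScal_pow φ hc', show (⟨zsd ι, hmem⟩ : Cen (Subgroup.zpowers (zsd ι))) ^ 2 = 1 from Subtype.ext (by
        rw [SubmonoidClass.coe_pow, OneMemClass.coe_one, ← d.orderOf_zsd, pow_orderOf_eq_one]), centScal_one]
    rcases sq_eq_one_iff.mp h2 with e | e <;> rw [e] <;> norm_num
  have hvec : ∀ (v : IrrCharacter (Cen (Subgroup.zpowers (zsd ι))) → ℤ) χ,
      formVec (zsd ι) (Cen (Subgroup.zpowers (zsd ι))) b (fun φ => (v φ : ℂ)) χ =
        (intVec (zsd ι) hmem b mult v χ : ℂ) := fun v χ => by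
    rw [formVec, intVec, Int.cast_sum]
    refine Finset.sum_congr rfl fun φ _ => ?_
    split_ifs with h1 h2
    · rw [classInner_shift_center hmem hzc, hmult, h2]; push_cast; ring
    · rw [classInner_shift_center hmem hzc, hmult, hsign φ, if_neg h2]; push_cast; ring
    · simp
  set f := intVec (zsd ι) hmem b mult u with hf
  set g := intVec (zsd ι) hmem b mult p with hg
  have hctr : ∀ χ η, ctr 2 (zsd ι) (Cen (Subgroup.zpowers (zsd ι))) b χ η =
      ((f χ * f η + (c : ℤ) * (g χ * g η) : ℤ) : ℂ) := fun χ η => by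
    rw [ctr_of_form hM (zsd ι) hbp'.2 (Finset.univ : Finset Bool) (fun i => cond i 1 (c : ℤ))
      (fun i => cond i u p) (fun φ hφ φ' hφ' => by
        rw [Fintype.sum_bool, hform φ hφ φ' hφ']; simp) χ η, Fintype.sum_bool]
    simp only [cond_true, cond_false, hvec, map_intCast]
    push_cast
    ring
  set m : IrrCharacter G → IrrCharacter G → ℤ := fun χ η => f χ * f η + (c : ℤ) * (g χ * g η) with hm
  set S := bset B with hS
  have hq : ((2 ^ blockDefect 2 b : ℕ) : ℤ) = 4 * (half k : ℤ) := by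
    rw [hdef, half]; push_cast; ring
  have htr : ∑ χ ∈ S, m χ χ = 4 * (half k : ℤ) * (blockRank 2 b : ℤ) := by
    rw [← hq]
    apply Int.cast_injective (α := ℂ)
    rw [Int.cast_sum, Finset.sum_congr rfl fun χ _ => (hctr χ χ).symm,
      sum_ctr_self hM (cen_zpowers _) hpow hind']
    push_cast; rfl
  have hidem : ∀ χ η, ∑ ψ ∈ S, m χ ψ * m ψ η = 4 * (half k : ℤ) * m χ η := fun χ η => by
    rw [← hq]
    apply Int.cast_injective (α := ℂ)
    rw [Int.cast_sum, Finset.sum_congr rfl fun ψ _ => by rw [Int.cast_mul, ← hctr, ← hctr]]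
    have h0 := ctr_sum_mul (cen_zpowers (zsd ι)) hM hpow hind' χ η
    rw [Int.cast_mul, ← hctr, Int.cast_natCast, ← h0]
    exact Finset.sum_congr (by ext ψ; simp [hS]) fun _ _ => rfl
  set X := ∑ χ ∈ S, f χ * f χ with hX
  set W := ∑ χ ∈ S, f χ * g χ with hW
  set N := ∑ χ ∈ S, g χ * g χ with hN
  have h1 : X + (c : ℤ) * N = 4 * (half k : ℤ) * (blockRank 2 b : ℤ) := by
    rw [← htr, hX, hN, Finset.mul_sum, ← Finset.sum_add_distrib]
  have h2 : X * X + 2 * (c : ℤ) * (W * W) + (c : ℤ) * c * (N * N) =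
      4 * (half k : ℤ) * (4 * (half k : ℤ) * (blockRank 2 b : ℤ)) := by
    rw [← htr, show 4 * (half k : ℤ) * ∑ χ ∈ S, m χ χ = ∑ χ ∈ S, ∑ ψ ∈ S, m χ ψ * m ψ χ from
      (Finset.mul_sum _ _ _).trans (Finset.sum_congr rfl fun χ _ => (hidem χ χ).symm)]
    rw [hX, hW, hN, Finset.sum_mul_sum, Finset.sum_mul_sum, Finset.sum_mul_sum]
    simp only [Finset.mul_sum, ← Finset.sum_add_distrib]
    refine Finset.sum_congr rfl fun χ _ => Finset.sum_congr rfl fun ψ _ => ?_
    simp only [hm]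
    ring
  have hh : (0 : ℤ) < (half k : ℤ) := by rw [half]; positivity
  have hcol : ∀ (t : IrrCharacter G → ℤ) (w : IrrCharacter G → ℤ) (s : ℤ), s ≠ 0 →
      (∀ χ, ∑ η ∈ S, t η * m χ η = s * w χ) →
      IsCol 2 (zsd ι) (Cen (Subgroup.zpowers (zsd ι))) b fun χ => (w χ : ℂ) := fun t w s hs h => by
    have := isCol_ctr (p := 2) (x := zsd ι) (H := Cen (Subgroup.zpowers (zsd ι))) b
      (fun η => (t η : ℂ) / (s : ℂ)) S
    convert this using 1
    funext χ
    have h' := congrArg (Int.cast (R := ℂ)) (h χ)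
    rw [Int.cast_sum] at h'
    rw [Finset.sum_congr rfl fun η _ => show (t η : ℂ) / (s : ℂ) * ctr 2 (zsd ι)
        (Cen (Subgroup.zpowers (zsd ι))) b χ η = ((t η * m χ η : ℤ) : ℂ) / (s : ℂ) by
      rw [hctr]; push_cast [hm]; ring, ← Finset.sum_div, h']
    push_cast
    field_simp
  have hexact : ∀ χ ∈ B, blockHeight 2 B (χ : G → ℂ) = 0 → ∀ ψ ∈ B,
      (2 : ℤ) ^ blockHeight 2 B (ψ : G → ℂ) ∣ f χ * f ψ + (c : ℤ) * (g χ * g ψ) ∧
        ¬ (2 : ℤ) ^ (blockHeight 2 B (ψ : G → ℂ) + 1) ∣ f χ * f ψ + (c : ℤ) * (g χ * g ψ) :=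
    fun χ hχ h0 ψ hψ => by
      exact_mod_cast ctr_exact hM (cen_zpowers _) hpow hind' hdB hχ h0 hψ (hctr χ ψ)
  have hceven : Even c := by
    rcases hc2 with ⟨-, -, e⟩ | ⟨-, ⟨e, -⟩ | e⟩ <;> rw [e]
    · exact even_two
    · exact Nat.even_pow.mpr ⟨even_two, by omega⟩
    · exact Nat.even_pow.mpr ⟨even_two, by omega⟩
  rcases hc2 with ⟨hl, hp0, -⟩ | ⟨hl, hc⟩
  · have hg0 : ∀ χ, g χ = 0 := fun χ => by rw [hg, hp0]; exact intVec_zero hmem b mult χ
    have hN0 : N = 0 := by simp [hN, hg0]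
    have hW0 : W = 0 := by simp [hW, hg0]
    rw [hl, hN0, mul_zero, add_zero] at h1
    have hX' : X = 4 * (half k : ℤ) := by rw [h1]; simp
    exact ⟨f, g, c, hctr, hceven, hX', hexact, hcol f f _ (by omega : (4 * (half k : ℤ)) ≠ 0) (fun χ => by
      rw [Finset.sum_congr rfl fun η _ => show f η * m χ η = f χ * (f η * f η) by simp only [hm, hg0]; ring,
        ← Finset.mul_sum, show ∑ η ∈ S, f η * f η = X from rfl, hX', mul_comm]), fun _ => hg0, Or.inl hl⟩
  · rw [hl] at h1 h2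
    push_cast at h1 h2
    have hc0 : 0 < (c : ℤ) := by
      rcases hc with ⟨e, -⟩ | e <;> rw [e] <;> positivity
    have hW0 : W = 0 := by
      have h3 : (c : ℤ) * (W * W) ≤ 0 := by nlinarith [sq_nonneg (X - (c : ℤ) * N)]
      exact mul_self_eq_zero.mp (le_antisymm (nonpos_of_mul_nonpos_right h3 hc0) (mul_self_nonneg W))
    have hX' : X = 4 * (half k : ℤ) := by
      rw [hW0] at h2
      have h3 : (X - (c : ℤ) * N) * (X - (c : ℤ) * N) = 0 := by nlinarith
      have := mul_self_eq_zero.mp h3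
      linarith
    have hcN : (c : ℤ) * N = 4 * (half k : ℤ) := by linarith
    refine ⟨f, g, c, hctr, hceven, hX', hexact, hcol f f _ (by omega : (4 * (half k : ℤ)) ≠ 0) fun χ => ?_,
      fun e => absurd (e.symm.trans hl) (by norm_num), Or.inr ⟨hl, hcol g g _ (by omega : (4 * (half k : ℤ)) ≠ 0)
        fun χ => ?_, hW0, ?_⟩⟩
    · rw [Finset.sum_congr rfl fun η _ => show f η * m χ η = f χ * (f η * f η) + (c : ℤ) * g χ * (f η * g η) by
        simp only [hm]; ring, Finset.sum_add_distrib, ← Finset.mul_sum, ← Finset.mul_sum,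
        show ∑ η ∈ S, f η * f η = X from rfl, show ∑ η ∈ S, f η * g η = W from rfl, hX', hW0]
      ring
    · rw [Finset.sum_congr rfl fun η _ => show g η * m χ η = f χ * (f η * g η) + g χ * ((c : ℤ) * (g η * g η)) by
        simp only [hm]; ring, Finset.sum_add_distrib, ← Finset.mul_sum, ← Finset.mul_sum, ← Finset.mul_sum,
        show ∑ η ∈ S, g η * g η = N from rfl, show ∑ η ∈ S, f η * g η = W from rfl, hcN, hW0]
      ring
    rcases hc with ⟨e, hpar⟩ | e
    · refine Or.inl ⟨e, ?_, fun χ => intVec_parity hmem mult hpar χ⟩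
      refine mul_left_cancel₀ hc0.ne' (hcN.trans ?_)
      rw [e, half]; push_cast; ring
    · refine Or.inr ⟨e, ?_⟩
      refine mul_left_cancel₀ hc0.ne' (hcN.trans ?_)
      rw [e, half]; push_cast; ring

end CfsgLib.SDDefect
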