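import Cfsg.Agent.Lib.BlockArith.SDDefect.Generators
import Cfsg.Agent.Lib.BlockArith.SDDefect.ZForms

/-!
# Sections in a semidihedral defect group

* `Unfused`: subpairs of two elements that are not conjugate;
* `rot_block`, `refl_block`: the blocks of rotations and of reflections have one modular character;
* `rank_bound`: columns bound the rank.
-/

set_option autoImplicit false

noncomputable section

open scoped ComplexConjugate Classical

namespace CfsgLib.SDDefect

open Cfsg CfsgLib.Blocks CfsgLib.BlockArith CfsgLib.Char CfsgLib.BrauerPairs CfsgLib.NilBlock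
open CfsgLib.Invol.QDW

universe u

theorem Sd.double_eq_zero {k : ℕ} {i : ZMod (2 ^ (k + 3))} (h : i + i = 0) : i = 0 ∨ i = half k := by
  have hv := ZMod.val_lt i
  rw [← ZMod.natCast_rightInverse i, ← Nat.cast_add, ZMod.natCast_eq_zero_iff] at h
  obtain ⟨a, ha⟩ := h
  have h3 : 2 ^ (k + 3) = 2 * half k := by rw [half, pow_succ']
  have ha2 : a < 2 := by
    by_contra hge
    have := Nat.mul_le_mul_left (2 ^ (k + 3)) (Nat.le_of_not_lt hge)
    omega
  interval_cases a
  · exact Or.inl ((ZMod.val_eq_zero i).mp (by omega))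
  · refine Or.inr ?_
    rw [← ZMod.natCast_rightInverse i, show i.val = half k by omega]

/-- The quarter rotation. -/
def qtr (k : ℕ) : ZMod (2 ^ (k + 3)) := ((2 ^ (k + 1) : ℕ) : ZMod (2 ^ (k + 3)))

theorem Sd.qtr_double (k : ℕ) : qtr k + qtr k = half k := by
  rw [qtr, ← Nat.cast_add, half, pow_succ 2 (k + 1), mul_two]

theorem Sd.qtr_ne (k : ℕ) : qtr k ≠ 0 ∧ qtr k ≠ half k := by
  constructor <;> intro h <;> refine Sd.half_ne_zero (k := k) ?_ <;> rw [← Sd.qtr_double, h]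
  · rw [add_zero]
  · exact Sd.half_add_half

theorem Sd.half_mul_qtr (k : ℕ) : (half k : ZMod (2 ^ (k + 3))) * qtr k = 0 := by
  rw [qtr, half, ← Nat.cast_mul, ZMod.natCast_eq_zero_iff, ← pow_add]
  exact pow_dvd_pow 2 (by omega)

theorem Sd.c_qtr (k : ℕ) : Sd.c k * qtr k = qtr k + half k := by
  rw [Sd.c]
  linear_combination (Sd.half_mul_qtr k) - (Sd.qtr_double k) - (Sd.half_add_half (k := k))

theorem Sd.double_eq_half {k : ℕ} {i : ZMod (2 ^ (k + 3))} (h : i + i = half k) :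
    i = qtr k ∨ i = Sd.c k * qtr k := by
  rcases Sd.double_eq_zero (i := i - qtr k) (by linear_combination h - Sd.qtr_double k) with e | e
  · exact Or.inl (sub_eq_zero.mp e)
  · exact Or.inr (by rw [Sd.c_qtr]; linear_combination e)

variable {G : Type u} [Group G] {D : Subgroup G} {k : ℕ} {ι : Sd k →* G}

theorem SData.rot_sq (_d : SData D ι) (i : ZMod (2 ^ (k + 3))) :
    ι ⟨i, false⟩ * ι ⟨i, false⟩ = ι ⟨i + i, false⟩ := by rw [← map_mul, Sd.rot_mul]

theorem SData.rot_sq_ne (d : SData D ι) {i : ZMod (2 ^ (k + 3))} (hi : i ≠ 0) (hi' : i ≠ half k) :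
    ι ⟨i, false⟩ * ι ⟨i, false⟩ ≠ 1 := by
  rw [d.rot_sq]
  exact d.rot_ne_one fun h => (Sd.double_eq_zero h).elim hi hi'

theorem SData.refl0_sq (_d : SData D ι) : ι ⟨0, true⟩ * ι ⟨0, true⟩ = 1 := by
  rw [← map_mul, Sd.refl_sq, zero_mul, Sd.rot_zero, map_one]

theorem SData.refl1_sq (_d : SData D ι) : ι ⟨1, true⟩ * ι ⟨1, true⟩ = zsd ι := by
  rw [← map_mul, Sd.refl_sq, one_mul]; rfl

theorem SData.zsd_sq (d : SData D ι) : zsd ι * zsd ι = 1 := by
  rw [← pow_two, ← d.orderOf_zsd, pow_orderOf_eq_one]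

theorem SData.zsd_ne_one (d : SData D ι) : zsd ι ≠ 1 := d.rot_ne_one Sd.half_ne_zero

theorem conj_sq {g a b : G} (h : g * a * g⁻¹ = b) : g * (a * a) * g⁻¹ = b * b := by rw [← h]; group

variable [Fintype G] {M : Ideal AlgInt} [M.IsMaximal] {B : Set (IrrCharacter G)}
  {e : Set (IrrCharacter (Cen D))}

/-- Subpairs that are not conjugate. -/
def Unfused (p : ℕ) (M : Ideal AlgInt) (D : Subgroup G) (e : Set (IrrCharacter (Cen D))) (x x' : G) : Prop :=
  ∀ b b', SubpairLE p M (Subgroup.zpowers x) b D e → SubpairLE p M (Subgroup.zpowers x') b' D e →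
    ∀ g : G, g * x' * g⁻¹ = x →
      cjPair g (⟨Subgroup.zpowers x', b'⟩ : BrauerPairIdx G) ≠ ⟨Subgroup.zpowers x, b⟩

omit [Fintype G] [M.IsMaximal] in
theorem unfused_of_not_conj {p : ℕ} {x x' : G} (h : ∀ g : G, g * x' * g⁻¹ ≠ x) : Unfused p M D e x x' :=
  fun _ _ _ _ g hg => absurd hg (h g)

theorem Unfused.symm {x x' : G} (hM : IsPModular 2 M) (hmax : IsMaximalBrauerPair 2 M B D e)
    (h : Unfused 2 M D e x x') : Unfused 2 M D e x' x := by
  have : Fact (Nat.Prime 2) := ⟨Nat.prime_two⟩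
  intro b b' hb hb' g hg hgb
  refine h b' b hb' hb g⁻¹ (by rw [← hg]; group) ?_
  have hbp := isBrauerPair_left (a := ⟨_, b'⟩) hb' hmax.1.1
  rw [← hgb]
  refine pair_ext (M := M) ?_ hbp.2 ?_ ?_
  · exact (isBrauerPair_cjPair _ (isBrauerPair_cjPair g hbp)).2
  · simp only [cjPair_fst, map_conj_zpowers]
    congr 1
    group
  · rw [pid_cjPair, pid_cjPair, cjA_cjA, inv_mul_cancel, cjA_one]

variable [hp : Fact (Nat.Prime 2)]

/-- Rotations have blocks with one modular character. -/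
theorem rot_block (hM : IsPModular 2 M) (hmax : IsMaximalBrauerPair 2 M B D e) (d : SData D ι)
    {i : ZMod (2 ^ (k + 3))} (hi : i ≠ 0) (hi' : i ≠ half k)
    {b : Set (IrrCharacter (Cen (Subgroup.zpowers (ι ⟨i, false⟩))))}
    (hb : SubpairLE 2 M (Subgroup.zpowers (ι ⟨i, false⟩)) b D e) : blockRank 2 b = 1 := by
  have hinf := d.inf_cen_gen hi hi'
  have hbp := isBrauerPair_left (a := ⟨Subgroup.zpowers (ι ⟨i, false⟩), b⟩) hb hmax.1.1
  have hfc : (blockFusion hM hmax).IsFullyCentralized (Subgroup.zpowers (ι ⟨i, false⟩)) := by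
    refine ⟨Subgroup.zpowers_le.mpr (d.mem _), fun Q' hQ' => ?_⟩
    obtain ⟨g, rfl, hgf⟩ := (isConj_iff_pair hM (blockFusion_spec hM hmax) hb).mp hQ'
    have hmem : g * ι ⟨i, false⟩ * g⁻¹ ∈ D :=
      subgroup_le hgf (show _ ∈ (Subgroup.zpowers (ι ⟨i, false⟩)).map (MulAut.conj g).toMonoidHom by
        rw [map_conj_zpowers]; exact Subgroup.mem_zpowers _)
    obtain ⟨⟨j, f⟩, hj⟩ := d.surj hmem
    show Nat.card (D ⊓ Cen ((Subgroup.zpowers (ι ⟨i, false⟩)).map (MulAut.conj g).toMonoidHom) : Subgroup G) ≤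
      Nat.card (D ⊓ Cen (Subgroup.zpowers (ι ⟨i, false⟩)) : Subgroup G)
    rw [map_conj_zpowers, ← hj, hinf]
    cases f with
    | true =>
      rw [d.card_cen_reflection, d.card_rotS]
      calc 4 = 2 ^ 2 := rfl
        _ ≤ _ := Nat.pow_le_pow_right two_pos (by omega)
    | false =>
      refine le_of_eq ?_
      have hsq := conj_sq hj.symm
      rw [d.inf_cen_gen (fun e0 => ?_) fun eh => ?_]
      · rw [e0, Sd.rot_zero, map_one, mul_one, conj_eq_one_iff] at hsq
        exact d.rot_sq_ne hi hi' hsq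
      · rw [eh, d.rot_sq (half k : ZMod (2 ^ (k + 3))), Sd.half_add_half, Sd.rot_zero, map_one,
          conj_eq_one_iff] at hsq
        exact d.rot_sq_ne hi hi' hsq
  have hD := (fullyCentralized_iff hM (blockFusion_spec hM hmax) hb).mp hfc
  refine blockRank_eq_one_of_cyclic hM hbp.2 hD ?_
  have hc : IsCyclic (D ⊓ Cen (Subgroup.zpowers (ι ⟨i, false⟩)) : Subgroup G) := by
    rw [hinf]; exact isCyclic_of_surjective _ (rotS ι).rangeRestrict_surjective
  exact (Subgroup.subgroupOfEquivOfLe inf_le_right).isCyclic.mpr hc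

/-- With `z` central the reflections of order two have blocks with one modular character. -/
theorem refl_block (hM : IsPModular 2 M) (hmax : IsMaximalBrauerPair 2 M B D e) (d : SData D ι)
    (hz : zsd ι ∈ Subgroup.center G)
    {b : Set (IrrCharacter (Cen (Subgroup.zpowers (ι ⟨0, true⟩))))}
    (hb : SubpairLE 2 M (Subgroup.zpowers (ι ⟨0, true⟩)) b D e) : blockRank 2 b = 1 := by
  have hbp := isBrauerPair_left (a := ⟨Subgroup.zpowers (ι ⟨0, true⟩), b⟩) hb hmax.1.1
  have hfc : (blockFusion hM hmax).IsFullyCentralized (Subgroup.zpowers (ι ⟨0, true⟩)) := by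
    refine ⟨Subgroup.zpowers_le.mpr (d.mem _), fun Q' hQ' => ?_⟩
    obtain ⟨g, rfl, hgf⟩ := (isConj_iff_pair hM (blockFusion_spec hM hmax) hb).mp hQ'
    have hmem : g * ι ⟨0, true⟩ * g⁻¹ ∈ D :=
      subgroup_le hgf (show _ ∈ (Subgroup.zpowers (ι ⟨0, true⟩)).map (MulAut.conj g).toMonoidHom by
        rw [map_conj_zpowers]; exact Subgroup.mem_zpowers _)
    obtain ⟨⟨j, f⟩, hj⟩ := d.surj hmem
    show Nat.card (D ⊓ Cen ((Subgroup.zpowers (ι ⟨0, true⟩)).map (MulAut.conj g).toMonoidHom) : Subgroup G) ≤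
      Nat.card (D ⊓ Cen (Subgroup.zpowers (ι ⟨0, true⟩)) : Subgroup G)
    rw [map_conj_zpowers, ← hj, d.card_cen_reflection]
    cases f with
    | true => rw [d.card_cen_reflection]
    | false =>
      exfalso
      have hsq := conj_sq hj.symm
      rw [d.refl0_sq, mul_one, mul_inv_cancel, d.rot_sq] at hsq
      rcases Sd.double_eq_zero (i := j) (by
        by_contra hne; exact d.rot_ne_one hne hsq.symm) with e0 | eh
      · rw [e0, Sd.rot_zero, map_one, eq_comm, conj_eq_one_iff] at hj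
        exact d.refl_ne_one _ hj
      · rw [eh, show ι ⟨(half k : ZMod (2 ^ (k + 3))), false⟩ = zsd ι from rfl, eq_comm, mul_inv_eq_iff_eq_mul,
          ← Subgroup.mem_center_iff.mp hz g, mul_left_cancel_iff] at hj
        exact Bool.noConfusion (congrArg Sd.e (d.inj hj))
  have hD := (fullyCentralized_iff hM (blockFusion_spec hM hmax) hb).mp hfc
  have hd2 : blockDefect 2 b = 2 := by
    refine Nat.pow_right_injective le_rfl ?_
    show 2 ^ blockDefect 2 b = 2 ^ 2
    rw [← card_defectGroup hM hbp.2 hD, card_subgroupOf' inf_le_right, d.card_cen_reflection]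
  have hle : Subgroup.zpowers (zsd ι) ≤ Cen (Subgroup.zpowers (ι ⟨0, true⟩)) :=
    (Subgroup.zpowers_le.mpr hz).trans (Subgroup.center_le_centralizer _)
  refine blockRank_eq_one_of_central_half hM hbp.2 hd2
    (Q := (Subgroup.zpowers (zsd ι)).subgroupOf (Cen (Subgroup.zpowers (ι ⟨0, true⟩)))) ?_ ?_
  · rw [card_subgroupOf' hle, Nat.card_zpowers, d.orderOf_zsd]
  · intro y hy
    exact Subgroup.mem_center_iff.mpr fun c => Subtype.ext
      (Subgroup.mem_center_iff.mp ((Subgroup.zpowers_le.mpr hz) hy) _)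

/-- A nonzero column. -/
theorem exists_col (hM : IsPModular 2 M) (hmax : IsMaximalBrauerPair 2 M B D e) {x : G} (hx : x ∈ D) :
    ∃ c : IrrCharacter G → ℂ, (∀ b, SubpairLE 2 M (Subgroup.zpowers x) b D e → IsCol 2 x _ b c) ∧
      ∃ χ ∈ B, c χ ≠ 0 := by
  obtain ⟨b, hb, hind, -, hpow⟩ := subsection_data hM hmax hx
  obtain ⟨s, hs, χ, hχ, hne⟩ := CfsgLib.DihDefect.exists_column hM (cen_zpowers x) hpow hind
  exact ⟨_, fun b' hb' => by rw [subpair_eq hM hmax.1.1 hb' hb]; exact isCol_secH b hs, χ, hχ, hne⟩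

/-- **The bound from the rotations and further columns.** -/
theorem rank_bound (hM : IsPModular 2 M) (hmax : IsMaximalBrauerPair 2 M B D e) (d : SData D ι) {a : ℕ}
    (y : Fin a → G) (hy : ∀ i, y i ∈ D ∧ y i ≠ 1) (c : Fin a → IrrCharacter G → ℂ)
    (hc : ∀ i, ∀ b, SubpairLE 2 M (Subgroup.zpowers (y i)) b D e → IsCol 2 (y i) _ b (c i))
    (hne : ∀ i, ∃ χ ∈ B, c i χ ≠ 0)
    (hrot : ∀ i, ∀ j : ZMod (2 ^ (k + 3)), j ≠ 0 → j ≠ half k → Unfused 2 M D e (y i) (ι ⟨j, false⟩))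
    (horth : ∀ i i', i ≠ i' → Unfused 2 M D e (y i) (y i') ∨ ∑ χ ∈ bset B, c i χ * conj (c i' χ) = 0) :
    blockRank 2 B + (half k - 1) + a ≤ (bset B).card := by
  obtain ⟨T, hT, hT0, hTc, -⟩ := exists_transversal k
  choose cT hcT hneT using fun i : T => exists_col hM hmax (d.mem (⟨i.1, false⟩ : Sd k))
  set eT := (Fintype.equivFin (T ⊕ Fin a)).symm with heT
  have hcard : Fintype.card (T ⊕ Fin a) = (half k - 1) + a := by simp [hT]
  let X : T ⊕ Fin a → G := Sum.elim (fun i => ι ⟨i.1, false⟩) y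
  let C : T ⊕ Fin a → IrrCharacter G → ℂ := Sum.elim cT c
  have hX : ∀ i, X i ∈ D ∧ X i ≠ 1 := by
    rintro (i | i)
    · exact ⟨d.mem _, d.rot_ne_one (hT0 _ i.2).1⟩
    · exact hy i
  have hC : ∀ i, ∀ b, SubpairLE 2 M (Subgroup.zpowers (X i)) b D e → IsCol 2 (X i) _ b (C i) := by
    rintro (i | i)
    · exact hcT i
    · exact hc i
  have hU : ∀ i i', i ≠ i' → Unfused 2 M D e (X i) (X i') ∨ ∑ χ ∈ bset B, C i χ * conj (C i' χ) = 0 := by
    rintro (i | i) (i' | i') hne'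
    · refine Or.inl fun b b' hb hb' g hg hgb => ?_
      rcases rot_fusion_sd hM hmax d hb hb' hg hgb with h1 | h1
      · exact hne' (congrArg Sum.inl (Subtype.ext h1.symm))
      · exact hTc _ i.2 (h1 ▸ i'.2)
    · exact Or.inl ((hrot i' i.1 (hT0 _ i.2).1 (hT0 _ i.2).2).symm hM hmax)
    · exact Or.inl (hrot i i'.1 (hT0 _ i'.2).1 (hT0 _ i'.2).2)
    · exact horth i i' fun h => hne' (congrArg Sum.inr h)
  have h := blockRank_add_le_of_cols hM hmax (X ∘ eT) (fun i => hX _) (C ∘ eT) (fun i => hC _) (fun i => ?_)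
    fun i j hij b b' hb hb' => (hU _ _ fun h => hij (eT.injective h)).imp (fun h => h b b' hb hb') id
  · rw [hcard] at h; omega
  · show ∃ χ ∈ B, C (eT i) χ ≠ 0
    rcases eT i with j | j
    · exact hneT j
    · exact hne j

end CfsgLib.SDDefect
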